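import Cfsg.Agent.Lib.SLShort.Four

/-!
# The presentation of the special linear group of degree three over four elements
-/

namespace CfsgLib.SLShort.Four

open Equiv
open scoped commutatorElement

/-- The word of the three-cycle. -/
def wc : FreeGroup (Fin 4) := FreeGroup.of 0
/-- The word of the involution. -/
def ws : FreeGroup (Fin 4) := FreeGroup.of 1
/-- The word of the first root element. -/
def wx : FreeGroup (Fin 4) := FreeGroup.of 2
/-- The word of the second root element. -/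
def wx' : FreeGroup (Fin 4) := FreeGroup.of 3

/-- A conjugate. -/
def cjw (p u : FreeGroup (Fin 4)) : FreeGroup (Fin 4) := p * u * p⁻¹

/-- The fourteen relations. -/
def rels4 : List (FreeGroup (Fin 4)) :=
  [wc ^ 3, (ws * wc) ^ 2, wx ^ 2, ws * (wx * cjw ws wx * wx)⁻¹,
    ⁅wx, cjw (wc * wc * ws) wx⁆, ⁅wx, cjw (wc * wc * ws) wx'⁆, ⁅wx', cjw (wc * wc * ws) wx'⁆,
    ⁅wx, cjw (wc * ws) wx⁆, ⁅wx, cjw (wc * ws) wx'⁆, ⁅wx', cjw (wc * ws) wx'⁆,
    ⁅wx, cjw wc wx⁆ * (cjw (wc * wc * ws) wx)⁻¹, ⁅wx, cjw wc wx'⁆ * (cjw (wc * wc * ws) wx')⁻¹,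
    ⁅wx', cjw wc wx⁆ * (cjw (wc * wc * ws) wx')⁻¹, ⁅wx', cjw wc wx'⁆ * (cjw (wc * wc * ws) (wx * wx'))⁻¹]

theorem exists_gens {G : Type*} [Group G] (f : Fin 4 → G) (h : ∀ r ∈ rels4, FreeGroup.lift f r = 1) :
    ∃ B : Gens G, B.c = f 0 ∧ B.s = f 1 ∧ B.x = f 2 ∧ B.x' = f 3 ∧ B.Rels := by
  simp only [rels4, List.mem_cons, List.not_mem_nil, or_false, forall_eq_or_imp, forall_eq] at h
  obtain ⟨h1, h2, h3, h4, a11, a12, a22, b11, b12, b22, r11, r12, r21, r22⟩ := h
  simp only [wc, ws, wx, wx', cjw, map_pow, map_mul, map_inv, map_commutatorElement,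
    FreeGroup.lift_apply_of, mul_inv_eq_one, commutatorElement_eq_one_iff_commute] at *
  exact ⟨⟨f 0, f 1, f 2, f 3, h1, h2, h3, h4⟩, rfl, rfl, rfl, rfl,
    ⟨a11, a12, a22, b11, b12, b22, r11, r12, r21, r22⟩⟩

theorem map_root {G H : Type*} [Group G] [Group H] {B : Gens G} {B₀ : Gens H} (ψ : G →* H)
    (hc : ψ B.c = B₀.c) (hs : ψ B.s = B₀.s) (hx : ψ B.x = B₀.x) (hx' : ψ B.x' = B₀.x')
    {F : Type*} [Field F] (D : F4 F) (i j : Fin 3) (t : F) : ψ (root B D i j t) = root B₀ D i j t := by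
  have hφ : ψ (φfun B D t) = φfun B₀ D t := by
    simp only [φfun]
    split_ifs <;> simp [hx, hx']
  simp only [root, Gens.Bel, map_mul, map_inv, hφ]
  have hP : ψ (B.P i j) = B₀.P i j := by
    fin_cases i <;> fin_cases j <;> simp [Gens.P, hc, hs]
  rw [hP]

section SL

variable {F : Type} [Field F] (D : F4 F)

local notation "SL3" => Matrix.SpecialLinearGroup (Fin 3) F

/-- Permutation matrices in characteristic two. -/
def pm : Perm (Fin 3) →* SL3 where
  toFun σ := ⟨(σ⁻¹).permMatrix F, by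
    rw [Matrix.det_permutation]
    rcases Int.units_eq_one_or (Perm.sign σ⁻¹) with h | h <;> rw [h] <;> simp
    linear_combination -D.two⟩
  map_one' := Subtype.ext (by simp)
  map_mul' σ τ := Subtype.ext (by
    show ((σ * τ)⁻¹).permMatrix F = (σ⁻¹).permMatrix F * (τ⁻¹).permMatrix F
    rw [_root_.mul_inv_rev, Equiv.Perm.permMatrix, Equiv.Perm.permMatrix,
      Equiv.Perm.permMatrix, ← PEquiv.toMatrix_trans, ← Equiv.toPEquiv_trans]
    rfl)

theorem pm_apply (σ : Perm (Fin 3)) (i j : Fin 3) :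
    (pm D σ).1 i j = if σ j = i then 1 else 0 := by
  show (σ⁻¹).toPEquiv.toMatrix i j = _
  rw [PEquiv.toMatrix_apply, Equiv.toPEquiv_apply]
  refine if_congr ?_ rfl rfl
  rw [Option.mem_def, Option.some.injEq, eq_comm, Perm.eq_inv_iff_eq, eq_comm]

/-- A root element. -/
def tr {i j : Fin 3} (h : i ≠ j) (t : F) : SL3 := Matrix.SpecialLinearGroup.transvection h t

theorem pm_conj (σ : Perm (Fin 3)) {i j : Fin 3} (h : i ≠ j) (t : F) :
    pm D σ * tr h t * (pm D σ)⁻¹ = tr (σ.injective.ne h) t := by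
  rw [mul_inv_eq_iff_eq_mul]
  apply Subtype.ext
  show (pm D σ).1 * (1 + Matrix.single i j t) = (1 + Matrix.single _ _ t) * (pm D σ).1
  ext a b
  obtain ⟨a', rfl⟩ := σ.surjective a
  rw [Matrix.mul_apply, Matrix.mul_apply, Finset.sum_eq_single a', Finset.sum_eq_single (σ b)]
  · simp [pm_apply, Matrix.one_apply, Matrix.single_apply]
  · intro c _ hc; simp [pm_apply, Ne.symm hc]
  · simp
  · intro c _ hc; simp [pm_apply, hc]
  · simp

theorem three_ne : (0 : Fin 3) ≠ 1 := by decide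

/-- The generators. -/
def f₀ : Fin 4 → SL3 := ![pm D (finRotate 3), pm D (swap 0 1), tr three_ne 1, tr three_ne D.w]

include D in
theorem seq₀ : pm D (swap 0 1) = tr three_ne 1 * (pm D (swap 0 1) * tr three_ne 1 * (pm D (swap 0 1))⁻¹) *
    (tr three_ne 1 : SL3) := by
  rw [pm_conj]
  apply Subtype.ext
  ext a b
  show _ = ((1 + Matrix.single (0 : Fin 3) 1 (1 : F)) *
    (1 + Matrix.single ((swap (0 : Fin 3) 1) 0) ((swap (0 : Fin 3) 1) 1) (1 : F)) *
    (1 + Matrix.single (0 : Fin 3) 1 (1 : F)) : Matrix (Fin 3) (Fin 3) F) a b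
  rw [pm_apply]
  fin_cases a <;> fin_cases b <;>
    simp [Matrix.mul_apply, Fin.sum_univ_three, Matrix.single_apply, Matrix.one_apply, D.two, swap_apply_def]

/-- The generators, structured. -/
def B₀ : Gens SL3 where
  c := pm D (finRotate 3)
  s := pm D (swap 0 1)
  x := tr three_ne 1
  x' := tr three_ne D.w
  c3 := by rw [← map_pow, show (finRotate 3) ^ 3 = 1 by decide, map_one]
  sc := by rw [← map_mul, ← map_pow, show ((swap 0 1 : Perm (Fin 3)) * finRotate 3) ^ 2 = 1 by decide, map_one]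
  x2 := by
    rw [pow_two]
    show CfsgLib.SLShort.tv (N := 0) _ (1 : F) * CfsgLib.SLShort.tv (N := 0) _ 1 = 1
    rw [← CfsgLib.SLShort.tv_add, D.two]
    exact Matrix.SpecialLinearGroup.transvection_coeff_zero _
  seq := seq₀ D

theorem Bel₀ (t : F) {i j : Fin 3} (h : i ≠ j) : (B₀ D).Bel i j (tr three_ne t) = tr h t := by
  obtain ⟨k, hik, hjk⟩ : ∃ k : Fin 3, i ≠ k ∧ j ≠ k := by
    clear t
    revert h i j
    decide
  refine Gens.triples (fun i j _ => ∀ h : i ≠ j, (B₀ D).Bel i j (tr three_ne t) = tr h t) ?_ ?_ ?_ h hik hjk h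
  · intro i j _ hij _ _ e _
    rw [(B₀ D).Bel_γ hij, e hij]
    show pm D (finRotate 3) * _ * _ = _
    rw [show (B₀ D).c = pm D (finRotate 3) from rfl, pm_conj]
    have e : ∀ a, finRotate 3 a = Gens.γ a := by decide
    simp only [e]
  · intro i j _ hij _ _ e _
    rw [(B₀ D).Bel_τ hij, e hij]
    show pm D (swap 0 1) * _ * _ = _
    rw [show (B₀ D).s = pm D (swap 0 1) from rfl, pm_conj]
    have e : ∀ a, swap (0 : Fin 3) 1 a = Gens.τ a := by decide
    simp only [e]
  · intro _; rw [Gens.Bel01]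

theorem φfun₀ (t : F) : φfun (B₀ D) D t = tr three_ne t := by
  rcases D.cases t with rfl | rfl | rfl | rfl
  · rw [φfun_zero]; exact (Matrix.SpecialLinearGroup.transvection_coeff_zero _).symm
  · rw [φfun_one]; rfl
  · rw [φfun_w]; rfl
  · rw [φfun_1w]; exact (CfsgLib.SLShort.tv_add (N := 0) three_ne 1 D.w).symm

theorem root₀ {i j : Fin 3} (h : i ≠ j) (t : F) : root (B₀ D) D i j t = tr h t := by
  rw [root, φfun₀, Bel₀]

theorem rels₀ : (B₀ D).Rels := by
  have c : ∀ {i j k l : Fin 3} (h1 : i ≠ j) (h2 : k ≠ l), j ≠ k → i ≠ l → ∀ s t : F,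
      Commute (tr h1 s) ((B₀ D).Bel k l (tr three_ne t)) := by
    intro i j k l h1 h2 h3 h4 s t
    rw [Bel₀ D t h2]
    exact CfsgLib.SLShort.tv_commute (N := 0) h1 h2 h3 h4 s t
  have b : ∀ s t : F, ⁅(tr three_ne s : SL3), (B₀ D).Bel 1 2 (tr three_ne t)⁆ =
      (B₀ D).Bel 0 2 (tr three_ne (s * t)) := by
    intro s t
    rw [Bel₀ D t (by decide : (1 : Fin 3) ≠ 2), Bel₀ D (s * t) (by decide : (0 : Fin 3) ≠ 2)]
    exact CfsgLib.SLShort.tv_bracket (N := 0) _ _ _ s t
  refine ⟨?_, ?_, ?_, ?_, ?_, ?_, ?_, ?_, ?_, ?_⟩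
  · exact c three_ne (by decide) (by decide) (by decide) 1 1
  · exact c three_ne (by decide) (by decide) (by decide) 1 D.w
  · exact c three_ne (by decide) (by decide) (by decide) D.w D.w
  · exact c three_ne (by decide) (by decide) (by decide) 1 1
  · exact c three_ne (by decide) (by decide) (by decide) 1 D.w
  · exact c three_ne (by decide) (by decide) (by decide) D.w D.w
  · have := b 1 1; rwa [one_mul] at this
  · have := b 1 D.w; rwa [one_mul] at this
  · have := b D.w 1; rwa [mul_one] at this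
  · have := b D.w D.w
    rw [D.ww, show (tr three_ne (1 + D.w) : SL3) = tr three_ne 1 * tr three_ne D.w from
      CfsgLib.SLShort.tv_add (N := 0) three_ne 1 D.w] at this
    exact this

theorem holds₀ : ∀ r ∈ rels4, FreeGroup.lift (f₀ D) r = 1 := by
  have R := rels₀ D
  simp only [rels4, List.mem_cons, List.not_mem_nil, or_false, forall_eq_or_imp, forall_eq]
  simp only [wc, ws, wx, wx', cjw, map_pow, map_mul, map_inv, map_commutatorElement,
    FreeGroup.lift_apply_of, mul_inv_eq_one, commutatorElement_eq_one_iff_commute]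
  exact ⟨(B₀ D).c3, (B₀ D).sc, (B₀ D).x2, (B₀ D).seq, R.a11, R.a12, R.a22, R.b11, R.b12, R.b22,
    R.r11, R.r12, R.r21, R.r22⟩

theorem exists_isom [Fintype F] :
    ∃ e : PresentedGroup {r | r ∈ rels4} ≃* SL3, ∀ k, e (PresentedGroup.of k) = f₀ D k := by
  have hlift : FreeGroup.lift (PresentedGroup.of (rels := {r | r ∈ rels4})) =
      PresentedGroup.mk {r | r ∈ rels4} := by
    ext k; simp only [FreeGroup.lift_apply_of]; rfl
  obtain ⟨B, hc, hs, hx, hx', R⟩ := exists_gens (PresentedGroup.of (rels := {r | r ∈ rels4}))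
    fun r hr => by rw [hlift]; exact PresentedGroup.one_of_mem hr
  have hh : ∀ r ∈ {r | r ∈ rels4}, FreeGroup.lift (f₀ D) r = 1 := holds₀ D
  let Φ := PresentedGroup.toGroup hh
  have hΦ : ∀ k, Φ (PresentedGroup.of k) = f₀ D k := fun k => PresentedGroup.toGroup.of hh
  have himg : ∀ {i j : Fin 3} (h : i ≠ j) (t : F),
      Φ (root B D i j t) = Matrix.SpecialLinearGroup.transvection h t := fun {i j} h t => by
    rw [map_root (B₀ := B₀ D) Φ (by rw [hc, hΦ]; rfl) (by rw [hs, hΦ]; rfl) (by rw [hx, hΦ]; rfl)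
      (by rw [hx', hΦ]; rfl), root₀ D h]
    rfl
  have hgen : ∀ g, g ∈ Subgroup.closure {g | ∃ i j t, i ≠ j ∧ root B D i j t = g} := by
    intro g
    obtain ⟨m1, m2, m3, m4⟩ := mem_root D R
    have : g ∈ Subgroup.closure (Set.range (PresentedGroup.of (rels := {r | r ∈ rels4}))) := by
      rw [PresentedGroup.closure_range_of]; exact Subgroup.mem_top g
    refine (Subgroup.closure_le _).2 ?_ this
    rintro _ ⟨k, rfl⟩
    fin_cases k
    · exact hc ▸ m1
    · exact hs ▸ m2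
    · exact hx ▸ m3
    · exact hx' ▸ m4
  have hinj : Function.Injective Φ := by
    rw [injective_iff_map_eq_one]
    intro g hg
    exact CfsgLib.StSL.injective_of_raw le_rfl (raw D R) Φ himg (hgen g) hg
  have hsurj : Function.Surjective Φ := by
    rw [← MonoidHom.range_eq_top, eq_top_iff,
      ← CfsgLib.StSL.closure_transvection_eq_top (K := F) (n := 3) (by omega), Subgroup.closure_le]
    rintro _ ⟨i, j, h, t, rfl⟩
    exact ⟨_, himg h t⟩
  exact ⟨MulEquiv.ofBijective Φ ⟨hinj, hsurj⟩, hΦ⟩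

end SL

end CfsgLib.SLShort.Four
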