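import Cfsg.Agent.Lib.SLShort.Present
import Cfsg.Agent.Lib.ShortPres.Final

/-!
# The alternating parts
-/

namespace CfsgLib.SLShort

open Equiv Equiv.Perm
open CfsgLib.ShortPres (Presents presents_alt_small' exists_par short_sym_alt Short)

theorem presents_c012 : ∃ (t : Fin 1 → AG 0) (relsT : Finset (FreeGroup (Fin 1))),
    relsT.card ≤ 1 ∧ Presents relsT t := by
  refine ⟨fun _ => c012 0, {FreeGroup.of 0 ^ 3}, le_rfl, ?_, ?_, ?_⟩
  · rw [Set.range_const, ← Subgroup.zpowers_eq_closure, eq_top_iff]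
    intro σ _
    have h : ∀ π : Perm (Fin 3), sign π = 1 →
        π = 1 ∨ π = CfsgLib.ShortPres.cyc3 0 1 2 ∨ π = (CfsgLib.ShortPres.cyc3 0 1 2)⁻¹ := by decide
    rcases h σ.1 (mem_alternatingGroup.1 σ.2) with e | e | e
    · rw [show σ = 1 from Subtype.ext e]; exact one_mem _
    · rw [show σ = c012 0 from Subtype.ext e]; exact Subgroup.mem_zpowers _
    · rw [show σ = (c012 0)⁻¹ from Subtype.ext e]; exact inv_mem (Subgroup.mem_zpowers _)
  · intro r hr
    rw [Finset.mem_singleton.1 hr, map_pow, FreeGroup.lift_apply_of]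
    apply Subtype.ext
    show (CfsgLib.ShortPres.cyc3 0 1 2 : Perm (Fin 3)) ^ 3 = 1
    decide
  · intro G _ f hf
    have h3 : f 0 ^ 3 = 1 := by simpa using hf _ (Finset.mem_singleton_self _)
    have hf' : Set.range f = {f 0} := by
      ext g
      simp [Fin.forall_fin_one, eq_comm]
    rw [hf', ← Subgroup.zpowers_eq_closure]
    have hfin : IsOfFinOrder (f 0) := isOfFinOrder_iff_pow_eq_one.2 ⟨3, by norm_num, h3⟩
    have hc : Nat.card (AG 0) = 3 := by
      have := two_mul_nat_card_alternatingGroup (α := Fin 3)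
      rw [Nat.card_perm, Nat.card_fin, show Nat.factorial 3 = 6 from rfl] at this
      show Nat.card (alternatingGroup (Fin 3)) = 3
      omega
    refine ⟨hfin.finite_zpowers, ?_⟩
    rw [← Nat.card_coe_set_eq, hc]
    show Nat.card (Subgroup.zpowers (f 0)) ≤ 3
    rw [Nat.card_zpowers]
    exact orderOf_le_of_pow_eq_one (by norm_num) h3

/-- The points outside `0, 1`. -/
def restEquiv (N : ℕ) : Fin (N + 1) ≃ {a : Fin (N + 3) // 2 ≤ a.val} where
  toFun a := ⟨⟨a.val + 2, by omega⟩, by simp⟩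
  invFun a := ⟨a.1.val - 2, by have := a.2; have := a.1.isLt; omega⟩
  left_inv a := by ext; simp
  right_inv a := by apply Subtype.ext; apply Fin.ext; show a.1.val - 2 + 2 = a.1.val; have := a.2; omega

/-- The stabilizer of `0` and `1` from a generating list of a smaller alternating group. -/
theorem exists_stab (N : ℕ) (L : List (alternatingGroup (Fin (N + 1))))
    (hL : Subgroup.closure {l | l ∈ L} = ⊤) :
    ∃ S : List (AG N), S.length = L.length ∧
      (∀ s ∈ S, (s : Perm (Fin (N + 3))) 0 = 0 ∧ (s : Perm (Fin (N + 3))) 1 = 1) ∧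
      ∀ σ : AG N, (σ : Perm (Fin (N + 3))) 0 = 0 → (σ : Perm (Fin (N + 3))) 1 = 1 →
        σ ∈ Subgroup.closure {s | s ∈ S} := by
  let ι₀ : Perm (Fin (N + 1)) →* Perm (Fin (N + 3)) :=
    Perm.ofSubtype.comp (restEquiv N).permCongrHom.toMonoidHom
  have hsign : ∀ π : Perm (Fin (N + 1)), sign (ι₀ π) = sign π := fun π => by
    show sign (Perm.ofSubtype ((restEquiv N).permCongr π)) = _
    rw [sign_ofSubtype, sign_permCongr]
  let ι : alternatingGroup (Fin (N + 1)) →* AG N :=
    (ι₀.comp (alternatingGroup (Fin (N + 1))).subtype).codRestrict (AG N) fun π =>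
      mem_alternatingGroup.2 ((hsign π.1).trans (mem_alternatingGroup.1 π.2))
  have hlow : ∀ (π : alternatingGroup (Fin (N + 1))) (a : Fin (N + 3)), a.val < 2 →
      (ι π : Perm (Fin (N + 3))) a = a := fun π a ha => by
    show Perm.ofSubtype ((restEquiv N).permCongr π.1) a = a
    exact Perm.ofSubtype_apply_of_not_mem _ (by show ¬ 2 ≤ a.val; omega)
  refine ⟨L.map ι, by simp, fun s hs => ?_, fun σ h0 h1 => ?_⟩
  · obtain ⟨l, -, rfl⟩ := List.mem_map.1 hs
    exact ⟨hlow l 0 (by simp), hlow l 1 (by simp)⟩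
  · have hpres : ∀ a : Fin (N + 3), 2 ≤ ((σ : Perm (Fin (N + 3))) a).val ↔ 2 ≤ a.val := by
      have h01 : ∀ b : Fin (N + 3), b.val < 2 ↔ b = 0 ∨ b = 1 := fun b => by
        simp only [Fin.ext_iff, Fin.val_zero, Fin.val_one]; omega
      intro a
      rw [← not_lt, ← not_lt, h01, h01]
      constructor <;> intro h e <;> apply h <;> rcases e with e | e
      · left; rw [e, h0]
      · right; rw [e, h1]
      · left; exact (σ : Perm (Fin (N + 3))).injective (e.trans h0.symm)
      · right; exact (σ : Perm (Fin (N + 3))).injective (e.trans h1.symm)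
    let τ₀ : Perm (Fin (N + 1)) := (restEquiv N).symm.permCongr ((σ : Perm (Fin (N + 3))).subtypePerm hpres)
    have hfix : ∀ x, (σ : Perm (Fin (N + 3))) x ≠ x → 2 ≤ x.val := fun x hx => by
      by_contra hlt
      apply hx
      rcases (show x.val = 0 ∨ x.val = 1 by omega) with e | e
      · rw [show x = 0 from Fin.ext e, h0]
      · rw [show x = 1 from Fin.ext (e.trans (by simp)), h1]
    have hι : ι₀ τ₀ = (σ : Perm (Fin (N + 3))) := by
      show Perm.ofSubtype ((restEquiv N).permCongr τ₀) = _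
      rw [show (restEquiv N).permCongr τ₀ = (σ : Perm (Fin (N + 3))).subtypePerm hpres by
        ext x; simp [τ₀, Equiv.permCongr_apply]]
      exact Perm.ofSubtype_subtypePerm _ hfix
    have hτ : τ₀ ∈ alternatingGroup (Fin (N + 1)) := by
      rw [mem_alternatingGroup, ← hsign, hι]
      exact mem_alternatingGroup.1 σ.2
    have e : σ = ι ⟨τ₀, hτ⟩ := Subtype.ext hι.symm
    rw [e]
    have hm : ι ⟨τ₀, hτ⟩ ∈ (Subgroup.closure {l | l ∈ L}).map ι :=
      Subgroup.mem_map_of_mem _ (hL ▸ Subgroup.mem_top _)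
    rw [MonoidHom.map_closure] at hm
    refine Subgroup.closure_mono ?_ hm
    rintro _ ⟨l, hl, rfl⟩
    exact List.mem_map.2 ⟨l, hl, rfl⟩

theorem exists_two_gens (n : ℕ) : ∃ a b : alternatingGroup (Fin n), Subgroup.closure {l | l ∈ [a, b]} = ⊤ := by
  have key : ∀ (s : Set (alternatingGroup (Fin n))) (a b : alternatingGroup (Fin n)),
      s ⊆ {a, b} → Subgroup.closure s = ⊤ → Subgroup.closure {l | l ∈ [a, b]} = ⊤ := by
    intro s a b hs h
    rw [eq_top_iff, ← h]
    refine Subgroup.closure_mono fun l hl => ?_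
    rcases hs hl with rfl | rfl <;> simp
  rcases (short_sym_alt n).2 with ⟨x, rels, -, h⟩ | ⟨x, rels, -, -, h⟩
  · exact ⟨x 0, x 1, key _ _ _ (by rintro _ ⟨i, rfl⟩; fin_cases i <;> simp) h.gen⟩
  · exact ⟨x 0, x 2, key _ _ _ subset_rfl h⟩

/-- Alternating parts with few relations. -/
theorem exists_tpart (N : ℕ) : ∃ P : TPart N,
    (N = 0 → P.m = 1 ∧ P.relsT.card ≤ 1 ∧ P.S.length = 0) ∧
    (N = 1 → P.m = 2 ∧ P.relsT.card ≤ 3 ∧ P.S.length = 0) ∧
    (N = 2 → P.m = 2 ∧ P.relsT.card ≤ 4 ∧ P.S.length ≤ 1) ∧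
    (3 ≤ N → P.m ≤ 3 ∧ P.relsT.card + 3 ≤ 7 + P.m ∧ P.S.length ≤ 2) := by
  obtain ⟨m, t, relsT, hT, b0, b12, b3⟩ : ∃ (m : ℕ) (t : Fin m → AG N) (relsT : Finset (FreeGroup (Fin m))),
      Presents relsT t ∧ (N = 0 → m = 1 ∧ relsT.card ≤ 1) ∧ (N = 1 ∨ N = 2 → m = 2 ∧ relsT.card ≤ N + 2) ∧
      (3 ≤ N → m ≤ 3 ∧ relsT.card + 3 ≤ 7 + m) := by
    rcases Nat.eq_zero_or_pos N with rfl | hN
    · obtain ⟨t, relsT, h, hT⟩ := presents_c012
      exact ⟨1, t, relsT, hT, fun _ => ⟨rfl, h⟩, fun h => by omega, fun h => by omega⟩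
    · rcases le_or_gt (N + 3) 6 with h6 | h6
      · obtain ⟨t, relsT, h, hT⟩ := presents_alt_small' h6
        exact ⟨2, t, relsT, hT, fun h => by omega, fun _ => ⟨rfl, by omega⟩, fun _ => ⟨by omega, by omega⟩⟩
      · obtain ⟨Q, hQ⟩ := exists_par h6
        obtain ⟨-, x, rels, h1, h2, -⟩ := Q.presents
        revert x rels
        rw [hQ]
        intro x rels h1 h2
        exact ⟨3, x, rels, h2, fun h => by omega, fun h => by omega, fun _ => ⟨le_rfl, by omega⟩⟩
  obtain ⟨L, hL, hlen⟩ : ∃ L : List (alternatingGroup (Fin (N + 1))),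
      Subgroup.closure {l | l ∈ L} = ⊤ ∧
        (N ≤ 1 → L.length = 0) ∧ (N = 2 → L.length = 1) ∧ L.length ≤ 2 := by
    rcases le_or_gt N 1 with h | h
    · haveI : Subsingleton (alternatingGroup (Fin (N + 1))) := by
        interval_cases N <;>
          exact ⟨fun a b => Subtype.ext ((by decide : ∀ π ρ : Perm _, sign π = 1 → sign ρ = 1 → π = ρ)
            a.1 b.1 (mem_alternatingGroup.1 a.2) (mem_alternatingGroup.1 b.2))⟩
      exact ⟨[], Subsingleton.elim _ _, fun _ => rfl, fun h => by omega, by simp⟩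
    · by_cases h2 : N = 2
      · subst h2
        obtain ⟨t, relsT, -, hT⟩ := presents_c012
        refine ⟨[t 0], ?_, fun h => by omega, fun _ => rfl, by simp⟩
        rw [eq_top_iff]
        refine hT.gen.ge.trans (Subgroup.closure_mono ?_)
        rintro _ ⟨i, rfl⟩
        fin_cases i
        simp
      · obtain ⟨a, b, hab⟩ := exists_two_gens (N + 1)
        exact ⟨[a, b], hab, fun h => by omega, fun h => absurd h h2, by simp⟩
  obtain ⟨S, hlen', hS0, hS⟩ := exists_stab N L hL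
  refine ⟨⟨m, t, relsT, hT, S, hS0, hS⟩, fun h => ⟨(b0 h).1, (b0 h).2, by have := hlen.1; show S.length = 0; omega⟩,
    fun h => ⟨(b12 (Or.inl h)).1, by have := (b12 (Or.inl h)).2; show relsT.card ≤ 3; omega,
      by have := hlen.1; show S.length = 0; omega⟩,
    fun h => ⟨(b12 (Or.inr h)).1, by have := (b12 (Or.inr h)).2; show relsT.card ≤ 4; omega,
      by have := hlen.2.1; show S.length ≤ 1; omega⟩,
    fun h => ⟨(b3 h).1, (b3 h).2, by show S.length ≤ 2; omega⟩⟩

end CfsgLib.SLShort
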