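import Cfsg.Agent.Lib.SLShort.Isom
import Cfsg.Agent.Lib.SLShort.TParts
import Cfsg.Agent.Lib.SLShort.FourPres
import Cfsg.Agent.Lib.ShortPres.Transfer2

/-!
# The presentations with their sizes
-/

namespace CfsgLib.SLShort

open CfsgLib.ShortPres (Presents)

theorem presents_of_list {T : Type} [Group T] [Finite T] {κ : Type} [Fintype κ] {k : ℕ} (σ : κ ≃ Fin k)
    (L : List (FreeGroup κ)) (x : κ → T)
    (h : ∃ e : PresentedGroup {r | r ∈ L} ≃* T, ∀ i, e (PresentedGroup.of i) = x i) :
    ∃ (y : Fin k → T) (rels : Finset (FreeGroup (Fin k))), rels.card ≤ L.length ∧ Presents rels y := by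
  classical
  rw [← List.coe_toFinset L] at h
  obtain ⟨e, he⟩ := h
  obtain ⟨y, rels, hc, hP⟩ := (Presents.of_iso e he).extend σ σ.injective
  refine ⟨y, rels, ?_, hP⟩
  rw [Fintype.card_congr σ] at hc
  exact le_trans (Nat.le_of_add_le_add_right hc) (List.toFinset_card_le L)

theorem pad {T : Type} [Group T] [Finite T] {m k : ℕ} (hmk : m ≤ k) {x : Fin m → T}
    {rels : Finset (FreeGroup (Fin m))} (h : Presents rels x) :
    ∃ rels' : Finset (FreeGroup (Fin k)), rels'.card + m ≤ rels.card + k ∧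
      Nonempty (PresentedGroup (↑rels' : Set (FreeGroup (Fin k))) ≃* T) := by
  obtain ⟨y, rels', hc, hP⟩ := h.extend (Fin.castLE hmk) (Fin.castLE_injective hmk)
  rw [Fintype.card_fin, Fintype.card_fin] at hc
  exact ⟨rels', hc, hP.nonempty_iso⟩

namespace TPart

variable {N : ℕ} (P : TPart N) {F : Type} [Field F] [Fintype F] (D : FData F)

theorem length_relList : (P.relList D).length ≤ P.relsT.card + 2 * P.S.length + 10 + (P.caseRels D).length := by
  simp only [relList, baseRels, List.length_append, List.length_map, List.length_cons, List.length_nil,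
    Finset.length_toList]
  omega

theorem length_caseRels : (P.caseRels D).length ≤
    if N = 0 then 3 else if N = 1 then 6 else if N = 2 then 4 else 3 := by
  unfold caseRels
  split_ifs <;> simp <;> omega

end TPart

theorem exists_sl_presentation (F : Type) [Field F] [Fintype F] (N : ℕ) :
    ∃ (m : ℕ) (x : Fin m → Matrix.SpecialLinearGroup (Fin (N + 3)) F) (rels : Finset (FreeGroup (Fin m))),
      Presents rels x ∧ (N = 0 → m = 4 ∧ rels.card ≤ 14) ∧ (N = 1 → m = 5 ∧ rels.card ≤ 19) ∧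
        (N = 2 → m = 5 ∧ rels.card ≤ 20) ∧ (1 ≤ N → m ≤ 6 ∧ rels.card + 7 ≤ 25 + m) := by
  classical
  by_cases h4 : N = 0 ∧ Fintype.card F = 4
  · obtain ⟨rfl, h4⟩ := h4
    obtain ⟨D⟩ := Four.exists_f4 h4
    obtain ⟨x, rels, hc, hP⟩ := presents_of_list (Equiv.refl (Fin 4)) Four.rels4 (Four.f₀ D) (Four.exists_isom D)
    exact ⟨4, x, rels, hP, fun _ => ⟨rfl, hc.trans (by simp [Four.rels4])⟩, fun h => by omega,
      fun h => by omega, fun h => by omega⟩
  obtain ⟨D⟩ := exists_fdata F
  obtain ⟨P, p0, p1, p2, p3⟩ := exists_tpart N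
  obtain ⟨x, rels, hc, hP⟩ := presents_of_list (finSumFinEquiv : Fin P.m ⊕ Fin 3 ≃ Fin (P.m + 3))
    (P.relList D) (P.f₀ D) (P.exists_isom D fun h hq => h4 ⟨h, hq⟩)
  have hl := hc.trans (P.length_relList D)
  have hcase := P.length_caseRels D
  refine ⟨P.m + 3, x, rels, hP, ?_, ?_, ?_, ?_⟩
  · intro h
    obtain ⟨a, b, c⟩ := p0 h
    rw [if_pos h] at hcase
    omega
  · intro h
    obtain ⟨a, b, c⟩ := p1 h
    rw [if_neg (by omega), if_pos h] at hcase
    omega
  · intro h
    obtain ⟨a, b, c⟩ := p2 h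
    rw [if_neg (by omega), if_neg (by omega), if_pos h] at hcase
    omega
  · intro h
    rw [if_neg (show N ≠ 0 by omega)] at hcase
    by_cases h1 : N = 1
    · obtain ⟨a, b, c⟩ := p1 h1
      rw [if_pos h1] at hcase
      omega
    rw [if_neg h1] at hcase
    by_cases h2 : N = 2
    · obtain ⟨a, b, c⟩ := p2 h2
      rw [if_pos h2] at hcase
      omega
    rw [if_neg h2] at hcase
    obtain ⟨a, b, c⟩ := p3 (by omega)
    omega

end CfsgLib.SLShort
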