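import Cfsg.Agent.Lib.ShortPres.Transfer2
import Mathlib.Algebra.Field.Shrink
import Mathlib.Algebra.Field.Equiv
import Mathlib.Logic.Small.Basic
import Mathlib.LinearAlgebra.Matrix.ProjectiveSpecialLinearGroup
import Mathlib.RingTheory.RootsOfUnity.Basic
import Mathlib.GroupTheory.SpecificGroups.Cyclic

/-!
# Changing the universe of the field, and passing to the projective group
-/

namespace CfsgLib.SLShort

open CfsgLib.ShortPres (Presents)

theorem exists_small_field (F : Type*) [Field F] [Fintype F] :
    ∃ (K : Type) (_ : Field K) (_ : Fintype K), Fintype.card K = Fintype.card F ∧ Nonempty (K ≃+* F) := by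
  classical
  haveI : Small.{0} F := Countable.toSmall F
  letI : Fintype (Shrink.{0} F) := Fintype.ofEquiv F (equivShrink F)
  refine ⟨Shrink.{0} F, inferInstance, inferInstance, ?_, ⟨(equivShrink F).symm.ringEquiv⟩⟩
  exact Fintype.card_congr (equivShrink F).symm

section Congr

variable {R S : Type*} [Field R] [Field S] (n : ℕ) (e : R ≃+* S)

/-- Transport of special linear groups. -/
def slCongr : Matrix.SpecialLinearGroup (Fin n) R ≃* Matrix.SpecialLinearGroup (Fin n) S where
  toFun := Matrix.SpecialLinearGroup.map (e : R →+* S)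
  invFun := Matrix.SpecialLinearGroup.map (e.symm : S →+* R)
  left_inv A := Subtype.ext (by ext i j; simp)
  right_inv A := Subtype.ext (by ext i j; simp)
  map_mul' := map_mul _

theorem map_center_eq {G H : Type*} [Group G] [Group H] (φ : G ≃* H) :
    (Subgroup.center G).map φ.toMonoidHom = Subgroup.center H := by
  ext h
  constructor
  · rintro ⟨g, hg, rfl⟩
    refine Subgroup.mem_center_iff.2 fun k => ?_
    have := congrArg φ (Subgroup.mem_center_iff.1 hg (φ.symm k))
    simpa using this
  · intro hh
    refine ⟨φ.symm h, Subgroup.mem_center_iff.2 fun k => φ.injective ?_, by simp⟩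
    simpa using Subgroup.mem_center_iff.1 hh (φ k)

/-- Transport of projective groups. -/
noncomputable def pslCongr :
    Matrix.ProjectiveSpecialLinearGroup (Fin n) R ≃* Matrix.ProjectiveSpecialLinearGroup (Fin n) S :=
  QuotientGroup.congr _ _ (slCongr n e) (map_center_eq _)

end Congr

theorem presents_psl {K : Type} [Field K] [Finite K] {n m : ℕ} (hn : 1 ≤ n)
    {x : Fin m → Matrix.SpecialLinearGroup (Fin n) K} {rels : Finset (FreeGroup (Fin m))} (h : Presents rels x) :
    ∃ (y : Fin m → Matrix.ProjectiveSpecialLinearGroup (Fin n) K) (rels' : Finset (FreeGroup (Fin m))),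
      rels'.card ≤ rels.card + 1 ∧ Presents rels' y := by
  classical
  haveI : Finite (Matrix.SpecialLinearGroup (Fin n) K) := Subtype.finite
  haveI : NeZero (Fintype.card (Fin n)) := ⟨by rw [Fintype.card_fin]; omega⟩
  haveI := rootsOfUnity.isCyclic K (Fintype.card (Fin n))
  haveI : IsCyclic (Subgroup.center (Matrix.SpecialLinearGroup (Fin n) K)) :=
    isCyclic_of_surjective (Matrix.SpecialLinearGroup.center_equiv_rootsOfUnity' (R := K) (⟨0, hn⟩ : Fin n)).symm
      (MulEquiv.surjective _)
  obtain ⟨z, hz⟩ := IsCyclic.exists_generator (α := Subgroup.center (Matrix.SpecialLinearGroup (Fin n) K))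
  obtain ⟨rels', hc, hP⟩ := h.quot (QuotientGroup.mk' (Subgroup.center _)) (QuotientGroup.mk'_surjective _) z.1 (by
    rw [QuotientGroup.ker_mk']
    refine le_antisymm (fun g hg => ?_) (Subgroup.zpowers_le.2 z.2)
    obtain ⟨k, hk⟩ := Subgroup.mem_zpowers_iff.1 (hz ⟨g, hg⟩)
    exact Subgroup.mem_zpowers_iff.2 ⟨k, by simpa using congrArg Subtype.val hk⟩)
  exact ⟨_, rels', hc, hP⟩

end CfsgLib.SLShort
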