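import Cfsg.Agent.Lib.SL2Pres.Words

/-!
# A generator of a finite field and the span of its powers
-/

namespace CfsgLib.SLShort

open Polynomial

variable {F : Type*} [Field F] [Fintype F]

/-- Data of a finite field used in the presentations. -/
structure FData (F : Type*) [Field F] [Fintype F] where
  p : ℕ
  ω : F
  m : ℤ[X]
  hp : p.Prime
  hp0 : (p : F) = 0
  hω : ω ≠ 0
  root : ∀ a : F, a ≠ 0 → ∃ j : ℕ, a = ω ^ j
  gen : ∀ a : F, ∃ P : ℤ[X], aeval ω P = a
  gen2 : ∀ a : F, ∃ P : ℤ[X], aeval (ω ^ 2) P = a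
  gen3 : Fintype.card F ≠ 4 → ∀ a : F, ∃ P : ℤ[X], aeval (ω ^ 3) P = a
  hm : aeval ω m = 0
  ker : ∀ P : ℤ[X], aeval ω P = 0 → P ∈ Ideal.span ({C (p : ℤ), m} : Set ℤ[X])

variable (F) in
theorem exists_fdata : Nonempty (FData F) := by
  classical
  obtain ⟨p, hpc⟩ := CharP.exists F
  haveI := hpc
  haveI : Fact p.Prime := ⟨CharP.char_is_prime F p⟩
  obtain ⟨f, -, hf⟩ := FiniteField.card F p
  obtain ⟨u, hu⟩ := IsCyclic.exists_generator (α := Fˣ)
  have hroot : ∀ a : F, a ≠ 0 → ∃ j : ℕ, a = (u : F) ^ j := fun a ha => by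
    obtain ⟨j, hj⟩ := mem_powers_iff_mem_zpowers.mpr (hu (Units.mk0 a ha))
    exact ⟨j, by rw [← Units.val_pow_eq_pow_val]; exact (congrArg Units.val hj).symm⟩
  have hgend : ∀ d : ℕ, 1 ≤ d → d ≤ 3 → ¬ (d = 3 ∧ Fintype.card F = 4) →
      ∀ a : F, ∃ P : ℤ[X], aeval ((u : F) ^ d) P = a := by
    intro d hd1 hd3 hne
    refine CfsgLib.SL2Pres.exists_int_poly_of_adjoin p (f := (f : ℕ))
      (by rw [Nat.card_eq_fintype_card]; exact hf) fun e he he' h => ?_
    obtain ⟨c, hc⟩ := he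
    have he0 : 0 < e := by
      rcases Nat.eq_zero_or_pos e with h0 | h0
      · subst h0; rw [zero_mul] at hc; exact absurd hc f.ne_zero
      · exact h0
    have hc2 : 2 ≤ c := by
      by_contra hlt
      rw [hc] at he'
      interval_cases c <;> omega
    set Q := p ^ e with hQ
    have hQ2 : 2 ≤ Q := le_trans (Fact.out : p.Prime).two_le (Nat.le_self_pow he0.ne' p)
    have hle : Q * Q ≤ Fintype.card F := by
      rw [hf, hQ, ← pow_add, hc]
      exact Nat.pow_le_pow_right (Fact.out : p.Prime).pos (by nlinarith)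
    have hdvd : Fintype.card F - 1 ∣ d * (Q - 1) := by
      rw [← Fintype.card_units, ← orderOf_eq_card_of_forall_mem_zpowers hu |>.trans Nat.card_eq_fintype_card]
      refine orderOf_dvd_of_pow_eq_one (Units.ext ?_)
      rw [Units.val_pow_eq_pow_val, Units.val_one]
      have h0 : ((u : F) ^ d) ^ (Q - 1) * (u : F) ^ d = (u : F) ^ d := by
        rw [← pow_succ, show Q - 1 + 1 = Q by omega]; exact h
      have h1 := mul_left_eq_self₀.mp h0
      rw [pow_mul]
      exact h1.resolve_right (pow_ne_zero _ u.ne_zero)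
    have h4 := Nat.le_of_dvd (Nat.mul_pos (by omega) (by omega)) hdvd
    have hQd : Q + 1 ≤ d := by
      by_contra hlt
      have : Q * Q - 1 ≤ d * (Q - 1) := le_trans (Nat.sub_le_sub_right hle 1) h4
      have h5 : (Q + 1) * (Q - 1) = Q * Q - 1 := by
        obtain ⟨r, hr⟩ := Nat.exists_eq_add_of_le (show 1 ≤ Q by omega)
        rw [hr, show 1 + r - 1 = r by omega]
        ring_nf
        omega
      have h6 : (d + 1) * (Q - 1) ≤ (Q + 1) * (Q - 1) := Nat.mul_le_mul_right _ (by omega)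
      rw [h5, Nat.add_mul, one_mul] at h6
      omega
    have hd : d = 3 ∧ Q = 2 := by omega
    obtain ⟨rfl, hQ'⟩ := hd
    rw [hQ'] at h4 hle hdvd
    refine hne ⟨rfl, ?_⟩
    omega
  let _ : Algebra (ZMod p) F := ZMod.algebra F p
  haveI : Module.Finite (ZMod p) F := Module.Finite.of_finite
  obtain ⟨m, hm, -, -⟩ := CfsgLib.SL2Pres.exists_monic_lift p
    (minpoly.monic (Algebra.IsIntegral.isIntegral (u : F) (R := ZMod p)))
  have hm0 : aeval (u : F) m = 0 := by
    rw [← aeval_map_algebraMap (ZMod p) (u : F) m, algebraMap_int_eq, hm, minpoly.aeval]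
  refine ⟨⟨p, u, m, Fact.out, CharP.cast_eq_zero F p, u.ne_zero, hroot,
    fun a => by simpa using hgend 1 le_rfl (by omega) (by omega) a,
    fun a => hgend 2 (by omega) (by omega) (by omega) a,
    fun h a => hgend 3 (by omega) le_rfl (fun h' => h h'.2) a, hm0, fun P hP => ?_⟩⟩
  have := CfsgLib.SL2Pres.ker_le_span p (u : F) (u : F) 1 (pow_one _).symm X (aeval_X _) m hm P hP
  refine Ideal.span_le.2 ?_ this
  rintro Q (rfl | rfl | rfl)
  · exact Ideal.subset_span (Or.inl rfl)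
  · rw [pow_one, comp_X]; exact Ideal.subset_span (Or.inr rfl)
  · rw [pow_one, comp_X, sub_self]; exact zero_mem _

namespace FData

variable (D : FData F)

theorem zpow_eq (a : F) (ha : a ≠ 0) : ∃ k : ℤ, a = D.ω ^ k := by
  obtain ⟨j, hj⟩ := D.root a ha
  exact ⟨j, by rw [hj, zpow_natCast]⟩

end FData

end CfsgLib.SLShort
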