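import Cfsg.Agent.S2286
import Cfsg.Agent.Lib.SLShort.Field

/-!
# Two generators of the two-dimensional special linear group
-/

namespace CfsgLib.SLShort

open Polynomial
open Cfsg.Agent.S2286 (xHom wEl dEl closure_eq_top conj_xHom weyl_inverts)

theorem sl2_two_gens (F : Type*) [Field F] [Fintype F] (h4 : 4 ≤ Fintype.card F) :
    ∃ u v : Matrix.SpecialLinearGroup (Fin 2) F, Subgroup.closure {u, v} = ⊤ := by
  classical
  obtain ⟨D⟩ := exists_fdata F
  let x : F → Matrix.SpecialLinearGroup (Fin 2) F := fun a => xHom (Multiplicative.ofAdd a)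
  have hadd : ∀ a b, x (a + b) = x a * x b := fun a b => map_mul xHom _ _
  have hzero : x 0 = 1 := map_one xHom
  set h := dEl D.ω D.hω
  refine ⟨h, x 1 * wEl, ?_⟩
  set H := Subgroup.closure ({h, x 1 * wEl} : Set (Matrix.SpecialLinearGroup (Fin 2) F))
  have mh : h ∈ H := Subgroup.subset_closure (Set.mem_insert _ _)
  have mg : x 1 * wEl ∈ H := Subgroup.subset_closure (Set.mem_insert_of_mem _ rfl)
  have hconj : ∀ a, h * x a * h⁻¹ = x (D.ω * D.ω * a) := fun a => conj_xHom D.ω D.hω a
  have hinv : ∀ a, x (-a) = (x a)⁻¹ := fun a =>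
    eq_inv_of_mul_eq_one_left (by rw [← hadd, neg_add_cancel, hzero])
  set c := D.ω * D.ω - 1 with hc
  have hc0 : c ≠ 0 := by
    intro e
    have hw : D.ω * D.ω = 1 := by linear_combination e
    have hsub : (Finset.univ : Finset F) ⊆ {0, 1, D.ω} := by
      intro a _
      by_cases ha : a = 0
      · simp [ha]
      obtain ⟨j, rfl⟩ := D.root a ha
      obtain ⟨k, rfl | rfl⟩ := Nat.even_or_odd' j
      · simp [pow_mul, pow_two, hw]
      · simp [pow_succ, pow_mul, pow_two, hw]
    have := (Finset.card_le_card hsub).trans Finset.card_le_three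
    rw [Finset.card_univ] at this
    omega
  have hxc : x c ∈ H := by
    have e : x c = h * ((x 1 * wEl) * h * (x 1 * wEl)⁻¹) := by
      calc x c = h * x 1 * h⁻¹ * (x 1)⁻¹ := by
            rw [hconj, ← hinv, ← hadd, mul_one, hc, sub_eq_add_neg]
        _ = h * (x 1 * (wEl * h * wEl⁻¹) * (x 1)⁻¹) := by rw [weyl_inverts]; group; rfl
        _ = _ := by group
    rw [e]
    exact mul_mem mh (mul_mem (mul_mem mg mh) (inv_mem mg))
  have hstep : ∀ a, x a ∈ H → x (D.ω * D.ω * a) ∈ H := fun a ha =>
    hconj a ▸ mul_mem (mul_mem mh ha) (inv_mem mh)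
  have hall : ∀ a, x a ∈ H := by
    intro a
    obtain ⟨P, hP⟩ := D.gen2 (a / c)
    have hk : ∀ (k : ℕ) (n : ℤ), x ((n : F) * (D.ω ^ 2) ^ k * c) ∈ H := by
      intro k
      induction k with
      | zero =>
        intro n
        have : x ((n : F) * c) = (x c) ^ n := by
          have := map_zpow (xHom (F := F)) (Multiplicative.ofAdd c) n
          rw [← ofAdd_zsmul, zsmul_eq_mul] at this
          exact this
        rw [pow_zero, mul_one, this]
        exact zpow_mem hxc n
      | succ k ih =>
        intro n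
        have := hstep _ (ih n)
        rwa [show D.ω * D.ω * ((n : F) * (D.ω ^ 2) ^ k * c) = (n : F) * (D.ω ^ 2) ^ (k + 1) * c by ring] at this
    have hP' : ∀ Q : ℤ[X], x (aeval (D.ω ^ 2) Q * c) ∈ H := by
      intro Q
      induction Q using Polynomial.induction_on' with
      | add p q hp hq => rw [map_add, add_mul, hadd]; exact mul_mem hp hq
      | monomial k n => rw [aeval_monomial]; simpa using hk k n
    have := hP' P
    rwa [hP, div_mul_cancel₀ _ hc0] at this
  refine closure_eq_top H hall ?_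
  have : (x 1)⁻¹ * (x 1 * wEl) ∈ H := mul_mem (inv_mem (hall 1)) mg
  rwa [inv_mul_cancel_left] at this

end CfsgLib.SLShort
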