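import Mathlib.GroupTheory.SpecificGroups.Alternating

/-!
# Even permutations moving a few points
-/

namespace CfsgLib.SLShort

open Equiv Equiv.Perm

variable {α : Type*} [DecidableEq α]

theorem exists_perm2 {a b i j : α} (hab : a ≠ b) (hij : i ≠ j) :
    ∃ π : Perm α, π a = i ∧ π b = j := by
  refine ⟨swap (swap a i b) j * swap a i, ?_, by simp⟩
  rw [Perm.mul_apply, swap_apply_left, swap_apply_of_ne_of_ne ?_ hij]
  intro h
  exact hab ((swap a i).injective ((swap_apply_left a i).trans h))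

theorem exists_perm3 {a b c i j k : α} (hab : a ≠ b) (hac : a ≠ c) (hbc : b ≠ c) (hij : i ≠ j)
    (hik : i ≠ k) (hjk : j ≠ k) : ∃ π : Perm α, π a = i ∧ π b = j ∧ π c = k := by
  obtain ⟨π, h1, h2⟩ := exists_perm2 hab hij
  refine ⟨swap (π c) k * π, ?_, ?_, by simp⟩
  · rw [Perm.mul_apply, h1, swap_apply_of_ne_of_ne (fun h => hac (π.injective (h1.trans h))) hik]
  · rw [Perm.mul_apply, h2, swap_apply_of_ne_of_ne (fun h => hbc (π.injective (h2.trans h))) hjk]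

theorem exists_perm4 {a b c d i j k l : α} (hab : a ≠ b) (hac : a ≠ c) (had : a ≠ d) (hbc : b ≠ c)
    (hbd : b ≠ d) (hcd : c ≠ d) (hij : i ≠ j) (hik : i ≠ k) (hil : i ≠ l) (hjk : j ≠ k) (hjl : j ≠ l)
    (hkl : k ≠ l) : ∃ π : Perm α, π a = i ∧ π b = j ∧ π c = k ∧ π d = l := by
  obtain ⟨π, h1, h2, h3⟩ := exists_perm3 hab hac hbc hij hik hjk
  refine ⟨swap (π d) l * π, ?_, ?_, ?_, by simp⟩
  · rw [Perm.mul_apply, h1, swap_apply_of_ne_of_ne (fun h => had (π.injective (h1.trans h))) hil]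
  · rw [Perm.mul_apply, h2, swap_apply_of_ne_of_ne (fun h => hbd (π.injective (h2.trans h))) hjl]
  · rw [Perm.mul_apply, h3, swap_apply_of_ne_of_ne (fun h => hcd (π.injective (h3.trans h))) hkl]

variable [Fintype α]

/-- An even permutation which agrees with `π`, or with `π` after the odd permutation `π₀`. -/
theorem even_or {π π₀ : Perm α} (h₀ : sign π₀ = -1) :
    (∃ σ : alternatingGroup α, (σ : Perm α) = π) ∨ ∃ σ : alternatingGroup α, (σ : Perm α) = π * π₀⁻¹ := by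
  rcases Int.units_eq_one_or (sign π) with h | h
  · exact Or.inl ⟨⟨π, mem_alternatingGroup.2 h⟩, rfl⟩
  · exact Or.inr ⟨⟨π * π₀⁻¹, mem_alternatingGroup.2 (by rw [map_mul, map_inv, h, h₀]; rfl)⟩, rfl⟩

theorem all_triples {π₀ : Perm α} (h₀ : sign π₀ = -1) {a b c : α} (hab : a ≠ b) (hac : a ≠ c) (hbc : b ≠ c)
    (Q : α → α → α → Prop)
    (hQ : ∀ (σ : alternatingGroup α) i j k, i ≠ j → i ≠ k → j ≠ k → Q i j k →
      Q ((σ : Perm α) i) ((σ : Perm α) j) ((σ : Perm α) k))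
    (h1 : Q a b c) (h2 : Q (π₀ a) (π₀ b) (π₀ c)) :
    ∀ i j k, i ≠ j → i ≠ k → j ≠ k → Q i j k := by
  intro i j k hij hik hjk
  obtain ⟨π, rfl, rfl, rfl⟩ := exists_perm3 hab hac hbc hij hik hjk
  rcases even_or (π := π) h₀ with ⟨σ, rfl⟩ | ⟨σ, hσ⟩
  · exact hQ σ a b c hab hac hbc h1
  · have := hQ σ _ _ _ (π₀.injective.ne hab) (π₀.injective.ne hac) (π₀.injective.ne hbc) h2
    simpa [hσ] using this

theorem all_quads {π₀ : Perm α} (h₀ : sign π₀ = -1) {a b c d : α} (hab : a ≠ b) (hac : a ≠ c) (had : a ≠ d)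
    (hbc : b ≠ c) (hbd : b ≠ d) (hcd : c ≠ d) (Q : α → α → α → α → Prop)
    (hQ : ∀ (σ : alternatingGroup α) i j k l, i ≠ j → i ≠ k → i ≠ l → j ≠ k → j ≠ l → k ≠ l → Q i j k l →
      Q ((σ : Perm α) i) ((σ : Perm α) j) ((σ : Perm α) k) ((σ : Perm α) l))
    (h1 : Q a b c d) (h2 : Q (π₀ a) (π₀ b) (π₀ c) (π₀ d)) :
    ∀ i j k l, i ≠ j → i ≠ k → i ≠ l → j ≠ k → j ≠ l → k ≠ l → Q i j k l := by
  intro i j k l hij hik hil hjk hjl hkl
  obtain ⟨π, rfl, rfl, rfl, rfl⟩ := exists_perm4 hab hac had hbc hbd hcd hij hik hil hjk hjl hkl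
  rcases even_or (π := π) h₀ with ⟨σ, rfl⟩ | ⟨σ, hσ⟩
  · exact hQ σ a b c d hab hac had hbc hbd hcd h1
  · have := hQ σ _ _ _ _ (π₀.injective.ne hab) (π₀.injective.ne hac) (π₀.injective.ne had)
      (π₀.injective.ne hbc) (π₀.injective.ne hbd) (π₀.injective.ne hcd) h2
    simpa [hσ] using this

end CfsgLib.SLShort
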