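import Cfsg.Agent.Lib.SLShort.Core
import Cfsg.Agent.Lib.SLShort.Perms

/-!
# Orbits of root elements and torus elements under an alternating group
-/

namespace CfsgLib.SLShort

open Equiv Equiv.Perm
open scoped commutatorElement

/-- The alternating group of degree `N + 3`. -/
abbrev AG (N : ℕ) := alternatingGroup (Fin (N + 3))

/-- An image of the alternating group and three elements fixed by the pointwise stabilizer of `0, 1`. -/
structure Base (N : ℕ) (G : Type*) [Group G] where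
  ρ : AG N →* G
  x : G
  y : G
  h : G
  stx : ∀ σ : AG N, (σ : Perm (Fin (N + 3))) 0 = 0 → (σ : Perm (Fin (N + 3))) 1 = 1 → Commute (ρ σ) x
  sty : ∀ σ : AG N, (σ : Perm (Fin (N + 3))) 0 = 0 → (σ : Perm (Fin (N + 3))) 1 = 1 → Commute (ρ σ) y
  sth : ∀ σ : AG N, (σ : Perm (Fin (N + 3))) 0 = 0 → (σ : Perm (Fin (N + 3))) 1 = 1 → Commute (ρ σ) h

variable {N : ℕ} {G : Type*} [Group G]

open Classical in
/-- The family of conjugates of `u`, completed by `u'` on the reversed pairs. -/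
noncomputable def orb (ρ : AG N →* G) (u u' : G) (i j : Fin (N + 3)) : G :=
  if h : ∃ σ : AG N, (σ : Perm (Fin (N + 3))) 0 = i ∧ (σ : Perm (Fin (N + 3))) 1 = j then
    ρ h.choose * u * (ρ h.choose)⁻¹
  else if h : ∃ σ : AG N, (σ : Perm (Fin (N + 3))) 1 = i ∧ (σ : Perm (Fin (N + 3))) 0 = j then
    ρ h.choose * u' * (ρ h.choose)⁻¹
  else 1

theorem n01 : (0 : Fin (N + 3)) ≠ 1 := by simp [Fin.ext_iff]
theorem n02 : (0 : Fin (N + 3)) ≠ 2 := by simp [Fin.ext_iff, Nat.mod_eq_of_lt (show 2 < N + 3 by omega)]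
theorem n12 : (1 : Fin (N + 3)) ≠ 2 := by simp [Fin.ext_iff, Nat.mod_eq_of_lt (show 2 < N + 3 by omega)]

theorem conj_eq_of_stab {ρ : AG N →* G} {u : G}
    (hu : ∀ σ : AG N, (σ : Perm (Fin (N + 3))) 0 = 0 → (σ : Perm (Fin (N + 3))) 1 = 1 → Commute (ρ σ) u)
    (σ τ : AG N) (h0 : (σ : Perm (Fin (N + 3))) 0 = (τ : Perm (Fin (N + 3))) 0)
    (h1 : (σ : Perm (Fin (N + 3))) 1 = (τ : Perm (Fin (N + 3))) 1) :
    ρ σ * u * (ρ σ)⁻¹ = ρ τ * u * (ρ τ)⁻¹ := by
  have hc := hu (τ⁻¹ * σ)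
    (by simp only [Subgroup.coe_mul, Subgroup.coe_inv, Perm.mul_apply]; rw [h0, Perm.inv_eq_iff_eq])
    (by simp only [Subgroup.coe_mul, Subgroup.coe_inv, Perm.mul_apply]; rw [h1, Perm.inv_eq_iff_eq])
  rw [map_mul, map_inv] at hc
  calc ρ σ * u * (ρ σ)⁻¹ = ρ τ * (((ρ τ)⁻¹ * ρ σ) * u * ((ρ τ)⁻¹ * ρ σ)⁻¹) * (ρ τ)⁻¹ := by group
    _ = ρ τ * u * (ρ τ)⁻¹ := by rw [hc.eq, mul_inv_cancel_right]

theorem orb_pos {ρ : AG N →* G} {u u' : G}
    (hu : ∀ σ : AG N, (σ : Perm (Fin (N + 3))) 0 = 0 → (σ : Perm (Fin (N + 3))) 1 = 1 → Commute (ρ σ) u)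
    (σ : AG N) :
    orb ρ u u' ((σ : Perm (Fin (N + 3))) 0) ((σ : Perm (Fin (N + 3))) 1) = ρ σ * u * (ρ σ)⁻¹ := by
  have h : ∃ τ : AG N, (τ : Perm (Fin (N + 3))) 0 = (σ : Perm (Fin (N + 3))) 0 ∧
    (τ : Perm (Fin (N + 3))) 1 = (σ : Perm (Fin (N + 3))) 1 := ⟨σ, rfl, rfl⟩
  rw [orb, dif_pos h]
  exact conj_eq_of_stab hu _ _ h.choose_spec.1 h.choose_spec.2

theorem orb_neg {ρ : AG N →* G} {u u' : G}
    (hu' : ∀ σ : AG N, (σ : Perm (Fin (N + 3))) 0 = 0 → (σ : Perm (Fin (N + 3))) 1 = 1 → Commute (ρ σ) u')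
    (σ : AG N)
    (hn : ¬ ∃ τ : AG N, (τ : Perm (Fin (N + 3))) 0 = (σ : Perm (Fin (N + 3))) 1 ∧
      (τ : Perm (Fin (N + 3))) 1 = (σ : Perm (Fin (N + 3))) 0) :
    orb ρ u u' ((σ : Perm (Fin (N + 3))) 1) ((σ : Perm (Fin (N + 3))) 0) = ρ σ * u' * (ρ σ)⁻¹ := by
  have h : ∃ τ : AG N, (τ : Perm (Fin (N + 3))) 1 = (σ : Perm (Fin (N + 3))) 1 ∧
    (τ : Perm (Fin (N + 3))) 0 = (σ : Perm (Fin (N + 3))) 0 := ⟨σ, rfl, rfl⟩
  rw [orb, dif_neg hn, dif_pos h]
  exact conj_eq_of_stab hu' _ _ h.choose_spec.2 h.choose_spec.1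

theorem pair_cases {i j : Fin (N + 3)} (h : i ≠ j) :
    (∃ σ : AG N, (σ : Perm (Fin (N + 3))) 0 = i ∧ (σ : Perm (Fin (N + 3))) 1 = j) ∨
      ∃ σ : AG N, (σ : Perm (Fin (N + 3))) 1 = i ∧ (σ : Perm (Fin (N + 3))) 0 = j ∧
        ¬ ∃ τ : AG N, (τ : Perm (Fin (N + 3))) 0 = i ∧ (τ : Perm (Fin (N + 3))) 1 = j := by
  by_cases hp : ∃ σ : AG N, (σ : Perm (Fin (N + 3))) 0 = i ∧ (σ : Perm (Fin (N + 3))) 1 = j
  · exact Or.inl hp
  obtain ⟨π, h0, h1⟩ := exists_perm2 (show (0 : Fin (N + 3)) ≠ 1 by simp [Fin.ext_iff]) h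
  rcases even_or (π := π) (π₀ := swap (0 : Fin (N + 3)) 1) (sign_swap (by simp [Fin.ext_iff])) with ⟨σ, rfl⟩ | ⟨σ, hσ⟩
  · exact absurd ⟨σ, h0, h1⟩ hp
  · refine Or.inr ⟨σ, ?_, ?_, hp⟩
    · rw [hσ, Perm.mul_apply, swap_inv, swap_apply_right, h0]
    · rw [hσ, Perm.mul_apply, swap_inv, swap_apply_left, h1]

theorem orb_equiv {ρ : AG N →* G} {u u' : G}
    (hu : ∀ σ : AG N, (σ : Perm (Fin (N + 3))) 0 = 0 → (σ : Perm (Fin (N + 3))) 1 = 1 → Commute (ρ σ) u)
    (hu' : ∀ σ : AG N, (σ : Perm (Fin (N + 3))) 0 = 0 → (σ : Perm (Fin (N + 3))) 1 = 1 → Commute (ρ σ) u')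
    (π : AG N) {i j : Fin (N + 3)} (h : i ≠ j) :
    orb ρ u u' ((π : Perm (Fin (N + 3))) i) ((π : Perm (Fin (N + 3))) j) =
      ρ π * orb ρ u u' i j * (ρ π)⁻¹ := by
  rcases pair_cases h with ⟨σ, rfl, rfl⟩ | ⟨σ, rfl, rfl, hn⟩
  · rw [orb_pos hu σ]
    have := orb_pos (u' := u') hu (π * σ)
    simp only [Subgroup.coe_mul, Perm.mul_apply] at this
    rw [this, map_mul]; group
  · rw [orb_neg hu' σ hn]
    have := orb_neg (u := u) hu' (π * σ) (by
      rintro ⟨τ, h1, h2⟩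
      simp only [Subgroup.coe_mul, Perm.mul_apply] at h1 h2
      exact hn ⟨π⁻¹ * τ, by simp [Subgroup.coe_mul, Perm.mul_apply, h1], by simp [Subgroup.coe_mul, Perm.mul_apply, h2]⟩)
    simp only [Subgroup.coe_mul, Perm.mul_apply] at this
    rw [this, map_mul]; group

namespace Base

variable (B : Base N G)

/-- The root elements. -/
noncomputable def xf : Fin (N + 3) → Fin (N + 3) → G := orb B.ρ B.x B.y
/-- The torus elements. -/
noncomputable def hf : Fin (N + 3) → Fin (N + 3) → G := orb B.ρ B.h B.h⁻¹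

theorem xf_equiv (π : AG N) {i j : Fin (N + 3)} (h : i ≠ j) :
    B.xf ((π : Perm (Fin (N + 3))) i) ((π : Perm (Fin (N + 3))) j) = B.ρ π * B.xf i j * (B.ρ π)⁻¹ :=
  orb_equiv B.stx B.sty π h

theorem hf_equiv (π : AG N) {i j : Fin (N + 3)} (h : i ≠ j) :
    B.hf ((π : Perm (Fin (N + 3))) i) ((π : Perm (Fin (N + 3))) j) = B.ρ π * B.hf i j * (B.ρ π)⁻¹ :=
  orb_equiv B.sth (fun σ a b => (B.sth σ a b).inv_right) π h

theorem xf01 : B.xf 0 1 = B.x := by
  have := orb_pos (u' := B.y) B.stx (1 : AG N)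
  simpa [xf] using this

theorem hf01 : B.hf 0 1 = B.h := by
  have := orb_pos (u' := B.h⁻¹) B.sth (1 : AG N)
  simpa [hf] using this

theorem xf10 (hn : ¬ ∃ τ : AG N, (τ : Perm (Fin (N + 3))) 0 = 1 ∧ (τ : Perm (Fin (N + 3))) 1 = 0) :
    B.xf 1 0 = B.y := by
  have := orb_neg (u := B.x) B.sty (1 : AG N) (by simpa using hn)
  simpa [xf] using this

/-- The relations on the torus elements. -/
structure Torus : Prop where
  coc : ∀ i j k, i ≠ j → i ≠ k → j ≠ k → B.hf i k = B.hf i j * B.hf j k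
  comm : Commute (B.hf 0 1) (B.hf 0 2)
  fixu_x : Commute (B.hf 0 2 * B.hf 1 2) B.x
  fixu_y : Commute (B.hf 0 2 * B.hf 1 2) B.y
  fix3_x : ∀ a : Fin (N + 3), a.val = 3 → Commute (B.hf 2 a) B.x
  fix3_y : ∀ a : Fin (N + 3), a.val = 3 → Commute (B.hf 2 a) B.y

variable {B}
variable (T : B.Torus)
include T

theorem Torus.anti {i j : Fin (N + 3)} (h : i ≠ j) : B.hf j i = (B.hf i j)⁻¹ := by
  obtain ⟨k, hki, hkj⟩ : ∃ k : Fin (N + 3), k ≠ i ∧ k ≠ j := by
    obtain ⟨π, h0, h1⟩ := exists_perm2 (show (0 : Fin (N + 3)) ≠ 1 by simp [Fin.ext_iff]) h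
    exact ⟨π 2, fun e => n02 (π.injective (e.trans h0.symm)).symm,
      fun e => n12 (π.injective (e.trans h1.symm)).symm⟩
  have e1 := T.coc i j k h hki.symm hkj.symm
  have e2 := T.coc j i k h.symm hkj.symm hki.symm
  rw [e1] at e2
  refine eq_inv_of_mul_eq_one_left ?_
  have e3 : B.hf j k = (B.hf j i * B.hf i j) * B.hf j k := by rw [mul_assoc]; exact e2
  exact (mul_eq_right.1 e3.symm)

/-- The chosen generators of the torus. -/
theorem Torus.comm0 (a b : Fin (N + 3)) (ha : a ≠ 0) (hb : b ≠ 0) : Commute (B.hf 0 a) (B.hf 0 b) := by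
  by_cases hab : a = b
  · subst hab; exact Commute.refl _
  refine all_triples (π₀ := swap (1 : Fin (N + 3)) 2) (sign_swap n12) n01 n02 n12 (fun i j k => Commute (B.hf i j) (B.hf i k)) ?_ T.comm ?_
    0 a b (Ne.symm ha) (Ne.symm hb) hab
  · intro σ i j k hij hik _ hc
    rw [B.hf_equiv σ hij, B.hf_equiv σ hik]
    exact hc.conj (B.ρ σ)
  · rw [swap_apply_of_ne_of_ne n01 n02, swap_apply_left,
      swap_apply_right]
    exact T.comm.symm

omit T in
/-- The `P_a`. -/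
noncomputable def pel (B : Base N G) (a : Fin (N + 3)) : G := if a = 0 then 1 else B.hf 0 a

theorem Torus.pel_comm (a b : Fin (N + 3)) : Commute (pel B a) (pel B b) := by
  unfold pel
  split_ifs with ha hb
  · exact Commute.one_left _
  · exact Commute.one_left _
  · exact Commute.one_right _
  · exact T.comm0 a b ha (by assumption)

theorem Torus.pow_comm (v : Fin (N + 3) → ℤ) :
    ((Finset.univ : Finset (Fin (N + 3))) : Set (Fin (N + 3))).Pairwise
      (Function.onFun Commute fun a => pel B a ^ (-v a)) :=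
  fun a _ b _ _ => (T.pel_comm a b).zpow_zpow _ _

/-- The torus as a homomorphism from weights. -/
noncomputable def Torus.τ (T : B.Torus) (v : Fin (N + 3) → ℤ) : G :=
  Finset.univ.noncommProd (fun a => pel B a ^ (-v a)) (T.pow_comm v)

theorem Torus.τ_add (v w : Fin (N + 3) → ℤ) : T.τ (v + w) = T.τ v * T.τ w := by
  unfold Torus.τ
  rw [← Finset.noncommProd_mul_distrib _ _ _ _ fun a _ b _ _ => (T.pel_comm a b).zpow_zpow _ _]
  refine Finset.noncommProd_congr rfl (fun a _ => ?_) _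
  rw [Pi.add_apply, neg_add, zpow_add]
  rfl

theorem Torus.τ_single (a : Fin (N + 3)) (k : ℤ) : T.τ (Pi.single a k) = pel B a ^ (-k) := by
  unfold Torus.τ
  rw [← Finset.mul_noncommProd_erase Finset.univ (Finset.mem_univ a), Pi.single_eq_same]
  refine (congrArg (pel B a ^ (-k) * ·) ?_).trans (mul_one _)
  refine (Finset.noncommProd_eq_pow_card _ _ _ 1 (fun b hb => ?_)).trans (one_pow _)
  show pel B b ^ _ = 1
  rw [Pi.single_eq_of_ne (Finset.ne_of_mem_erase hb), neg_zero, zpow_zero]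

theorem Torus.τ_zero : T.τ 0 = 1 := by
  have := T.τ_add 0 0
  rw [add_zero] at this
  exact left_eq_mul.1 this

/-- Weights to the torus, additively. -/
noncomputable def Torus.τhom (T : B.Torus) : Multiplicative (Fin (N + 3) → ℤ) →* G where
  toFun v := T.τ (Multiplicative.toAdd v)
  map_one' := T.τ_zero
  map_mul' v w := T.τ_add _ _

theorem Torus.τ_diff {i j : Fin (N + 3)} (h : i ≠ j) :
    T.τ ((Pi.single i (1 : ℤ) : Fin (N + 3) → ℤ) - Pi.single j 1) = B.hf i j := by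
  have hs : T.τ (Pi.single i 1 - Pi.single j 1) = (pel B i)⁻¹ * pel B j := by
    rw [sub_eq_add_neg, T.τ_add, T.τ_single, zpow_neg_one, ← Pi.single_neg, T.τ_single, neg_neg, zpow_one]
  rw [hs]
  unfold pel
  by_cases hi : i = 0
  · subst hi; rw [if_pos rfl, if_neg (Ne.symm h), inv_one, one_mul]
  · by_cases hj : j = 0
    · subst hj; rw [if_pos rfl, if_neg hi, mul_one]; exact (T.anti (Ne.symm h)).symm
    · rw [if_neg hi, if_neg hj, inv_mul_eq_iff_eq_mul]
      exact T.coc 0 i j (Ne.symm hi) (Ne.symm hj) h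

omit T in
theorem sum_zero_induction {n : ℕ} [NeZero n] (P : (Fin n → ℤ) → Prop) (h0 : P 0)
    (hadd : ∀ v w, P v → P w → P (v + w))
    (hgen : ∀ (a : Fin n) (k : ℤ), a ≠ 0 → P (k • ((Pi.single (0 : Fin n) (1 : ℤ) : Fin n → ℤ) - Pi.single a 1)))
    (v : Fin n → ℤ) (hv : ∑ t, v t = 0) : P v := by
  classical
  have e : v = ∑ a ∈ (Finset.univ.erase (0 : Fin n)), (-v a) • ((Pi.single (0 : Fin n) (1 : ℤ) : Fin n → ℤ) - Pi.single a 1) := by
    funext t
    rw [Finset.sum_apply]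
    by_cases ht : t = 0
    · subst ht
      have : ∀ a ∈ Finset.univ.erase (0 : Fin n),
          ((-v a) • ((Pi.single (0 : Fin n) (1 : ℤ) : Fin n → ℤ) - Pi.single a 1) : Fin n → ℤ) 0 = -v a := fun a ha => by
        simp [(Finset.ne_of_mem_erase ha).symm]
      rw [Finset.sum_congr rfl this, Finset.sum_neg_distrib]
      have := Finset.add_sum_erase Finset.univ v (Finset.mem_univ (0 : Fin n))
      linarith
    · rw [Finset.sum_eq_single t]
      · simp [ht]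
      · intro a _ hat; simp [ht, hat.symm]
      · intro hh; exact absurd (Finset.mem_erase.2 ⟨ht, Finset.mem_univ t⟩) hh
  rw [e]
  exact Finset.sum_induction _ P hadd h0 fun a ha => hgen a _ (Finset.ne_of_mem_erase ha)

theorem Torus.τ_smul_diff {i j : Fin (N + 3)} (h : i ≠ j) (k : ℤ) :
    T.τ (k • ((Pi.single i (1 : ℤ) : Fin (N + 3) → ℤ) - Pi.single j 1)) = B.hf i j ^ k := by
  rw [← T.τ_diff h]
  exact map_zpow T.τhom (Multiplicative.ofAdd ((Pi.single i (1 : ℤ) : Fin (N + 3) → ℤ) - Pi.single j 1)) k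

theorem Torus.τ_equiv (σ : AG N) (v : Fin (N + 3) → ℤ) (hv : ∑ t, v t = 0) :
    B.ρ σ * T.τ v * (B.ρ σ)⁻¹ = T.τ (v ∘ ((σ : Perm (Fin (N + 3)))⁻¹ : Perm (Fin (N + 3)))) := by
  refine sum_zero_induction (fun v => B.ρ σ * T.τ v * (B.ρ σ)⁻¹ = T.τ (v ∘ _)) ?_ ?_ ?_ v hv
  · show _ = T.τ 0
    rw [T.τ_zero, mul_one, mul_inv_cancel]
  · intro v w h1 h2
    show _ = T.τ (v ∘ _ + w ∘ _)
    rw [T.τ_add, T.τ_add, ← h1, ← h2]; group
  · intro a k ha
    have e : (k • ((Pi.single (0 : Fin (N + 3)) (1 : ℤ) : Fin (N + 3) → ℤ) - Pi.single a 1)) ∘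
        ((σ : Perm (Fin (N + 3)))⁻¹ : Perm (Fin (N + 3))) =
        k • ((Pi.single ((σ : Perm (Fin (N + 3))) 0) (1 : ℤ) : Fin (N + 3) → ℤ) - Pi.single ((σ : Perm (Fin (N + 3))) a) 1) := by
      funext t
      simp only [Function.comp_apply, Pi.smul_apply, Pi.sub_apply, Pi.single_apply, Perm.inv_eq_iff_eq]
    rw [e, T.τ_smul_diff (Ne.symm ha), T.τ_smul_diff ((σ : Perm (Fin (N + 3))).injective.ne (Ne.symm ha)),
      B.hf_equiv σ (Ne.symm ha), conj_zpow]

theorem Torus.fix01 (u : G) (hu : Commute (B.hf 0 2 * B.hf 1 2) u)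
    (h3 : ∀ a : Fin (N + 3), a.val = 3 → Commute (B.hf 2 a) u)
    (st : ∀ σ : AG N, (σ : Perm (Fin (N + 3))) 0 = 0 → (σ : Perm (Fin (N + 3))) 1 = 1 → Commute (B.ρ σ) u)
    (v : Fin (N + 3) → ℤ) (hv : ∑ t, v t = 0) (h01 : v 0 = v 1) : Commute (T.τ v) u := by
  classical
  have h2a : ∀ a : Fin (N + 3), a ≠ 0 → a ≠ 1 → a ≠ 2 → Commute (B.hf 2 a) u := by
    intro a a0 a1 a2
    by_cases ha : a.val = 3
    · exact h3 a ha
    have hN : 3 < N + 3 := by
      have ha1 : a.val ≠ 0 := fun e => a0 (Fin.ext e)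
      have ha2 : a.val ≠ 1 := fun e => a1 (Fin.ext (by simpa using e))
      have ha3 : a.val ≠ 2 := fun e => a2 (Fin.ext (by simp [e, Nat.mod_eq_of_lt (show 2 < N + 3 by omega)]))
      have := a.isLt
      omega
    set c : Fin (N + 3) := ⟨3, hN⟩ with hc
    have c0 : c ≠ 0 := fun e => by have := congrArg Fin.val e; simp [hc] at this
    have c1 : c ≠ 1 := fun e => by have := congrArg Fin.val e; simp [hc] at this
    have c2 : c ≠ 2 := fun e => by
      have := congrArg Fin.val e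
      simp [hc, Nat.mod_eq_of_lt (show 2 < N + 3 by omega)] at this
    have ca : c ≠ a := fun e => ha (by rw [← e])
    let σ : AG N := ⟨swap c a * swap (2 : Fin (N + 3)) c, mem_alternatingGroup.2 (by
      rw [map_mul, sign_swap ca, sign_swap c2.symm]; rfl)⟩
    have s0 : (σ : Perm (Fin (N + 3))) 0 = 0 := by
      simp only [σ, Perm.mul_apply]
      rw [swap_apply_of_ne_of_ne n02 c0.symm, swap_apply_of_ne_of_ne c0.symm a0.symm]
    have s1 : (σ : Perm (Fin (N + 3))) 1 = 1 := by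
      simp only [σ, Perm.mul_apply]
      rw [swap_apply_of_ne_of_ne n12 c1.symm, swap_apply_of_ne_of_ne c1.symm a1.symm]
    have s2 : (σ : Perm (Fin (N + 3))) 2 = a := by
      simp only [σ, Perm.mul_apply]
      rw [swap_apply_left, swap_apply_left]
    have s3 : (σ : Perm (Fin (N + 3))) c = 2 := by
      simp only [σ, Perm.mul_apply]
      rw [swap_apply_right, swap_apply_of_ne_of_ne c2.symm a2.symm]
    have e := B.hf_equiv σ (Ne.symm c2)
    rw [s2, s3] at e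
    rw [T.anti a2, e]
    have hσu := st σ s0 s1
    exact ((hσu.mul_left (h3 c rfl)).mul_left hσu.inv_left).inv_left
  let w : Fin (N + 3) → ℤ := v - v 0 • ((Pi.single (0 : Fin (N + 3)) (1 : ℤ) : Fin (N + 3) → ℤ) - Pi.single 2 1) - v 0 • ((Pi.single (1 : Fin (N + 3)) (1 : ℤ) : Fin (N + 3) → ℤ) - Pi.single 2 1)
  have hw0 : w 0 = 0 := by simp [w, n01, n02]
  have hw1 : w 1 = 0 := by simp [w, n01.symm, n12, h01]
  have hwsum : ∑ t, w t = 0 := by
    simp [w, Finset.sum_sub_distrib, ← Finset.mul_sum, hv]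
  have e : v = v 0 • ((Pi.single (0 : Fin (N + 3)) (1 : ℤ) : Fin (N + 3) → ℤ) - Pi.single 2 1) + v 0 • ((Pi.single (1 : Fin (N + 3)) (1 : ℤ) : Fin (N + 3) → ℤ) - Pi.single 2 1) + w := by
    simp [w]
  have hw : w = ∑ a ∈ Finset.univ.filter (fun a : Fin (N + 3) => a ≠ 0 ∧ a ≠ 1 ∧ a ≠ 2),
      (-w a) • ((Pi.single (2 : Fin (N + 3)) (1 : ℤ) : Fin (N + 3) → ℤ) - Pi.single a 1) := by
    funext t
    rw [Finset.sum_apply]
    by_cases ht : t ≠ 0 ∧ t ≠ 1 ∧ t ≠ 2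
    · rw [Finset.sum_eq_single t]
      · simp [ht.2.2]
      · intro a _ hat; simp [ht.2.2, hat.symm]
      · intro hh; exact absurd (Finset.mem_filter.2 ⟨Finset.mem_univ t, ht⟩) hh
    · have hcoef : ∀ a ∈ Finset.univ.filter (fun a : Fin (N + 3) => a ≠ 0 ∧ a ≠ 1 ∧ a ≠ 2),
          ((-w a) • ((Pi.single (2 : Fin (N + 3)) (1 : ℤ) : Fin (N + 3) → ℤ) - Pi.single a 1) : Fin (N + 3) → ℤ) t =
            if t = 2 then -w a else 0 := by
        intro a ha
        have ha' := (Finset.mem_filter.1 ha).2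
        have hta : t ≠ a := fun e => ht (e ▸ ha')
        by_cases h2 : t = 2 <;> simp [Pi.single_apply, hta, h2, Ne.symm ha'.2.2]
      rw [Finset.sum_congr rfl hcoef]
      by_cases h2 : t = 2
      · subst h2
        simp only [if_true, Finset.sum_neg_distrib]
        have := Finset.sum_filter_add_sum_filter_not Finset.univ (fun a : Fin (N + 3) => a ≠ 0 ∧ a ≠ 1 ∧ a ≠ 2) w
        have hs : ∑ a ∈ Finset.univ.filter (fun a : Fin (N + 3) => ¬ (a ≠ 0 ∧ a ≠ 1 ∧ a ≠ 2)), w a = w 2 := by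
          refine Finset.sum_eq_single_of_mem 2 (by simp) fun a ha ha2 => ?_
          have ha' := (Finset.mem_filter.1 ha).2
          by_cases h0 : a = 0
          · rw [h0]; exact hw0
          by_cases h1 : a = 1
          · rw [h1]; exact hw1
          exact absurd ⟨h0, h1, ha2⟩ ha'
        rw [hs, hwsum] at this
        linarith
      · simp only [if_neg h2, Finset.sum_const_zero]
        by_cases h0 : t = 0
        · rw [h0]; exact hw0
        by_cases h1 : t = 1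
        · rw [h1]; exact hw1
        exact absurd ⟨h0, h1, h2⟩ ht
  rw [e, T.τ_add, hw]
  refine Commute.mul_left ?_ ?_
  · rw [← smul_add]
    have := map_zpow T.τhom (Multiplicative.ofAdd ((Pi.single (0 : Fin (N + 3)) (1 : ℤ) : Fin (N + 3) → ℤ) - Pi.single 2 1 +
      ((Pi.single (1 : Fin (N + 3)) (1 : ℤ) : Fin (N + 3) → ℤ) - Pi.single 2 1))) (v 0)
    rw [show T.τ (v 0 • ((Pi.single (0 : Fin (N + 3)) (1 : ℤ) : Fin (N + 3) → ℤ) - Pi.single 2 1 + ((Pi.single (1 : Fin (N + 3)) (1 : ℤ) : Fin (N + 3) → ℤ) - Pi.single 2 1))) =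
      T.τhom (Multiplicative.ofAdd ((Pi.single (0 : Fin (N + 3)) (1 : ℤ) : Fin (N + 3) → ℤ) - Pi.single 2 1 +
        ((Pi.single (1 : Fin (N + 3)) (1 : ℤ) : Fin (N + 3) → ℤ) - Pi.single 2 1)) ^ v 0) from rfl, this]
    refine Commute.zpow_left ?_ _
    show Commute (T.τ (((Pi.single (0 : Fin (N + 3)) (1 : ℤ) : Fin (N + 3) → ℤ) - Pi.single 2 1) +
      ((Pi.single (1 : Fin (N + 3)) (1 : ℤ) : Fin (N + 3) → ℤ) - Pi.single 2 1))) u
    rw [T.τ_add, T.τ_diff n02, T.τ_diff n12]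
    exact hu
  · refine Finset.sum_induction _ (fun z => Commute (T.τ z) u)
      (fun a b ha hb => by rw [T.τ_add]; exact ha.mul_left hb) (by rw [T.τ_zero]; exact Commute.one_left _)
      fun a ha => ?_
    obtain ⟨a0, a1, a2⟩ := (Finset.mem_filter.1 ha).2
    rw [T.τ_smul_diff a2.symm]
    exact (h2a a a0 a1 a2).zpow_left _

/-- The torus and the root elements. -/
noncomputable def Torus.pre (T : B.Torus) : Pre (N + 3) G where
  τ := T.τ
  τ_add := T.τ_add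
  x := B.xf
  fix := by
    intro i j hij v hv hvij
    have key : ∀ (σ : AG N) (u : G),
        (∀ w : Fin (N + 3) → ℤ, ∑ t, w t = 0 → w 0 = w 1 → Commute (T.τ w) u) →
        v ((σ : Perm (Fin (N + 3))) 0) = v ((σ : Perm (Fin (N + 3))) 1) →
        Commute (T.τ v) (B.ρ σ * u * (B.ρ σ)⁻¹) := by
      intro σ u hu he
      have hs : ∑ t, (v ∘ (σ : Perm (Fin (N + 3)))) t = 0 :=
        (Equiv.sum_comp (σ : Perm (Fin (N + 3))) v).trans hv
      have hh := hu _ hs he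
      have e := T.τ_equiv σ _ hs
      rw [Function.comp_assoc, ← Perm.coe_mul, mul_inv_cancel, Perm.coe_one, Function.comp_id] at e
      rw [← e]
      exact hh.conj (B.ρ σ)
    rcases pair_cases hij with ⟨σ, rfl, rfl⟩ | ⟨σ, rfl, rfl, hn⟩
    · rw [show B.xf _ _ = _ from orb_pos B.stx σ]
      exact key σ _ (T.fix01 _ T.fixu_x T.fix3_x B.stx) hvij
    · rw [show B.xf _ _ = _ from orb_neg B.sty σ hn]
      exact key σ _ (T.fix01 _ T.fixu_y T.fix3_y B.sty) hvij.symm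
  other i j := (Classical.epsilon fun l => l ≠ i ∧ l ≠ j)
  other_ne i j := by
    refine Classical.epsilon_spec (p := fun l => l ≠ i ∧ l ≠ j) ?_
    by_contra hcon
    push Not at hcon
    have h1 := Finset.card_le_card (fun l _ => show l ∈ ({i, j} : Finset (Fin (N + 3))) by
      simp only [Finset.mem_insert, Finset.mem_singleton]
      exact or_iff_not_imp_left.mpr (hcon l) :
        (Finset.univ : Finset (Fin (N + 3))) ⊆ {i, j})
    have h2 : ({i, j} : Finset (Fin (N + 3))).card ≤ 2 := Finset.card_le_two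
    rw [Finset.card_univ, Fintype.card_fin] at h1
    omega

end Base

end CfsgLib.SLShort
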