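import Cfsg.Agent.Lib.SLShort.Core

/-!
# A root group generated by the commutators of two others (degree three)
-/

namespace CfsgLib.SLShort

open Polynomial
open scoped commutatorElement

variable {F : Type*} [Field F] [Fintype F] (D : FData F) {n : ℕ} {G : Type*} [Group G]

theorem Pre.lin_of_bracket (P : Pre n G) (hgen : ∀ a : F, ∃ Q : ℤ[X], aeval (D.ω ^ 3) Q = a)
    {i j k : Fin n} (hij : i ≠ j) (hjk : j ≠ k) (hik : i ≠ k) {φ ψ : Multiplicative F →* G}
    (hφ : P.Lin D i j φ) (hψ : P.Lin D j k ψ) (hbr : ⁅P.x i j, P.x j k⁆ = P.x i k)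
    (hc : ∀ a b : ℤ, (3 : ℤ) ∣ a - b → P.Coupled i j j k a b)
    (hC1 : Commute (P.x i j) (P.x i k) ∧ P.Cos 3 i j i k)
    (hC2 : Commute (P.x j k) (P.x i k) ∧ P.Cos 3 j k i k) :
    ∃ χ : Multiplicative F →* G, P.Lin D i k χ := by
  have cφ : ∀ (s : F) (b : ℤ), Commute (φ (Multiplicative.ofAdd s)) (P.E i k b) :=
    P.commute_E_left D hgen hij hik hφ hC1.1 hC1.2
  have cψ : ∀ (s : F) (b : ℤ), Commute (ψ (Multiplicative.ofAdd s)) (P.E i k b) :=
    P.commute_E_left D hgen hjk hik hψ hC2.1 hC2.2
  have hE : ∀ b, P.E i k b = ⁅P.E i j (2 * b), P.E j k (-b)⁆ := fun b => by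
    rw [P.bracket_E hij hjk hik hbr (hc _ _ ⟨b, by ring⟩)]
    congr 1; ring
  have hEE : ∀ a b, Commute (P.E i k a) (P.E i k b) := by
    intro a b
    rw [hE a, commutatorElement_def, ← hφ, ← hψ]
    exact (((cφ _ b).mul_left (cψ _ b)).mul_left (cφ _ b).inv_left).mul_left (cψ _ b).inv_left
  set W := Subgroup.closure (Set.range (P.E i k)) with hW
  have hWφ : ∀ s, ∀ w ∈ W, Commute (φ (Multiplicative.ofAdd s)) w := by
    intro s w hw
    have : w ∈ Subgroup.centralizer {φ (Multiplicative.ofAdd s)} := (Subgroup.closure_le _).2 (by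
      rintro _ ⟨b, rfl⟩
      exact Subgroup.mem_centralizer_singleton_iff.2 (cφ s b).symm) hw
    exact (Subgroup.mem_centralizer_singleton_iff.1 this).symm
  have hWψ : ∀ s, ∀ w ∈ W, Commute (ψ (Multiplicative.ofAdd s)) w := by
    intro s w hw
    have : w ∈ Subgroup.centralizer {ψ (Multiplicative.ofAdd s)} := (Subgroup.closure_le _).2 (by
      rintro _ ⟨b, rfl⟩
      exact Subgroup.mem_centralizer_singleton_iff.2 (cψ s b).symm) hw
    exact (Subgroup.mem_centralizer_singleton_iff.1 this).symm
  have hWW : ∀ u ∈ W, ∀ w ∈ W, Commute u w := fun u hu w hw =>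
    CfsgLib.SL2Pres.commute_of_mem_closure (by rintro _ ⟨a, rfl⟩ _ ⟨b, rfl⟩; exact hEE a b) hu hw
  set g : F → F → G := fun s t => ⁅φ (Multiplicative.ofAdd s), ψ (Multiplicative.ofAdd t)⁆ with hg
  have idl : ∀ a c t, g (a + c) t =
      φ (Multiplicative.ofAdd a) * g c t * (φ (Multiplicative.ofAdd a))⁻¹ * g a t := fun a c t => by
    simp only [hg, ofAdd_add, map_mul, commutatorElement_def]; group
  have idr : ∀ s a c, g s (a + c) =
      g s a * (ψ (Multiplicative.ofAdd a) * g s c * (ψ (Multiplicative.ofAdd a))⁻¹) := fun s a c => by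
    simp only [hg, ofAdd_add, map_mul, commutatorElement_def]; group
  have hgW : ∀ s t, g s t ∈ W := by
    have left : ∀ (b : ℤ) (s : F), g s (D.ω ^ b) ∈ W := by
      intro b
      let S : AddSubgroup F :=
        { carrier := {s | g s (D.ω ^ b) ∈ W}
          zero_mem' := by show g 0 _ ∈ W; simp [hg, commutatorElement_def, one_mem]
          add_mem' := fun {a c} ha hc => by
            show g _ _ ∈ W
            rw [idl, (hWφ a _ hc).eq, mul_inv_cancel_right]
            exact mul_mem hc ha
          neg_mem' := fun {a} ha => by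
            show g _ _ ∈ W
            have e := idl a (-a) (D.ω ^ b)
            rw [add_neg_cancel, show g 0 (D.ω ^ b) = 1 by simp [hg, commutatorElement_def]] at e
            have e2 : g (-a) (D.ω ^ b) =
                (φ (Multiplicative.ofAdd a))⁻¹ * (g a (D.ω ^ b))⁻¹ * φ (Multiplicative.ofAdd a) := by
              rw [← eq_inv_of_mul_eq_one_left e.symm]; group
            rw [e2, mul_assoc, ← (hWφ a _ (inv_mem ha)).eq, inv_mul_cancel_left]
            exact inv_mem ha }
      refine fun s => D.full S hgen b (fun m => ?_) s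
      show ⁅_, _⁆ ∈ W
      rw [hφ, hψ, P.bracket_E hij hjk hik hbr (hc _ _ ⟨m, by push_cast; ring⟩)]
      exact Subgroup.subset_closure ⟨_, rfl⟩
    intro s
    let T : AddSubgroup F :=
      { carrier := {t | g s t ∈ W}
        zero_mem' := by show g s 0 ∈ W; simp [hg, commutatorElement_def, one_mem]
        add_mem' := fun {a c} ha hc => by
          show g _ _ ∈ W
          rw [idr, (hWψ a _ hc).eq, mul_inv_cancel_right]
          exact mul_mem ha hc
        neg_mem' := fun {a} ha => by
          show g _ _ ∈ W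
          have e := idr s a (-a)
          rw [add_neg_cancel, show g s 0 = 1 by simp [hg, commutatorElement_def]] at e
          have e2 : g s (-a) =
              (ψ (Multiplicative.ofAdd a))⁻¹ * (g s a)⁻¹ * ψ (Multiplicative.ofAdd a) := by
            rw [← eq_inv_of_mul_eq_one_right e.symm]; group
          rw [e2, mul_assoc, ← (hWψ a _ (inv_mem ha)).eq, inv_mul_cancel_left]
          exact inv_mem ha }
    exact fun t => D.full T hgen 0 (fun m => left _ s) t
  have addl : ∀ a c t, g (a + c) t = g a t * g c t := fun a c t => by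
    rw [idl, (hWφ a _ (hgW c t)).eq, mul_inv_cancel_right, (hWW _ (hgW c t) _ (hgW a t)).eq]
  have addr : ∀ s a c, g s (a + c) = g s a * g s c := fun s a c => by
    rw [idr, (hWψ a _ (hgW s c)).eq, mul_inv_cancel_right]
  have g0 : ∀ t, g 0 t = 1 := fun t => by simp [hg, commutatorElement_def]
  have g0' : ∀ s, g s 0 = 1 := fun t => by simp [hg, commutatorElement_def]
  have negl : ∀ a t, g (-a) t = (g a t)⁻¹ := fun a t =>
    eq_inv_of_mul_eq_one_left (by rw [← addl, neg_add_cancel, g0])
  have negr : ∀ a t, g a (-t) = (g a t)⁻¹ := fun a t =>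
    eq_inv_of_mul_eq_one_left (by rw [← addr, neg_add_cancel, g0'])
  have swapRule : ∀ (m : ℕ) (s t : F), g (s * D.ω ^ ((3 : ℤ) * m)) t = g s (D.ω ^ ((3 : ℤ) * m) * t) := by
    intro m s
    let T : AddSubgroup F :=
      { carrier := {t | g (s * D.ω ^ ((3 : ℤ) * m)) t = g s (D.ω ^ ((3 : ℤ) * m) * t)}
        zero_mem' := by show g _ _ = g _ _; rw [mul_zero, g0', g0']
        add_mem' := fun {a c} ha hc => by
          show g _ _ = g _ _
          rw [addr, mul_add, addr, show g _ _ = _ from ha, show g _ _ = _ from hc]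
        neg_mem' := fun {a} ha => by
          show g _ _ = g _ _
          rw [negr, mul_neg, negr, show g _ _ = _ from ha] }
    refine fun t => D.full T hgen 0 (fun l => ?_) t
    set b : ℤ := 0 + ((3 : ℕ) : ℤ) * (l : ℤ) with hb
    show g (s * D.ω ^ ((3 : ℤ) * m)) (D.ω ^ b) = g s (D.ω ^ ((3 : ℤ) * m) * D.ω ^ b)
    rw [← zpow_add₀ D.hω]
    let S : AddSubgroup F :=
      { carrier := {s | g (s * D.ω ^ ((3 : ℤ) * m)) (D.ω ^ b) = g s (D.ω ^ ((3 : ℤ) * m + b))}
        zero_mem' := by show g _ _ = g _ _; rw [zero_mul, g0, g0]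
        add_mem' := fun {a c} ha hc => by
          show g _ _ = g _ _
          rw [add_mul, addl, addl, show g _ _ = _ from ha, show g _ _ = _ from hc]
        neg_mem' := fun {a} ha => by
          show g _ _ = g _ _
          rw [negl, neg_mul, negl, show g _ _ = _ from ha] }
    refine D.full S hgen b (fun r => ?_) s
    show ⁅_, _⁆ = ⁅_, _⁆
    rw [← zpow_add₀ D.hω, hφ, hφ, hψ, hψ, P.bracket_E hij hjk hik hbr (hc _ _ ⟨r + m, by push_cast; ring⟩),
      P.bracket_E hij hjk hik hbr (hc _ _ ⟨r - m, by push_cast; ring⟩)]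
    congr 1; ring
  have collapse : ∀ s t, g s t = g (s * t) 1 := by
    intro s r
    let R : AddSubgroup F :=
      { carrier := {r | ∀ s t, g (s * r) t = g s (r * t)}
        zero_mem' := fun s t => by rw [mul_zero, zero_mul, g0, g0']
        add_mem' := fun {a c} ha hc s t => by rw [mul_add, add_mul, addl, addr, ha, hc]
        neg_mem' := fun {a} ha s t => by rw [mul_neg, neg_mul, negl, negr, ha] }
    have := D.full R hgen 0 (fun m s t => by
      have := swapRule m s t
      rwa [show (0 : ℤ) + ((3 : ℕ) : ℤ) * m = (3 : ℤ) * m by push_cast; ring]) r s 1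
    rw [mul_one] at this
    exact this.symm
  refine ⟨{ toFun := fun a => g (Multiplicative.toAdd a) 1
            map_one' := g0 1
            map_mul' := fun a c => addl _ _ _ }, fun b => ?_⟩
  show g (D.ω ^ b) 1 = _
  rw [hE b, ← hφ, ← hψ, show D.ω ^ b = D.ω ^ (2 * b) * D.ω ^ (-b) by rw [← zpow_add₀ D.hω]; congr 1; ring,
    ← collapse]

end CfsgLib.SLShort
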