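import Cfsg.Agent.Lib.SLShort.Base
import Cfsg.Agent.Lib.SLShort.Derived

/-!
# The Steinberg relations from the few relations
-/

namespace CfsgLib.SLShort

open Equiv Equiv.Perm Polynomial
open scoped commutatorElement

section Coupling

variable {n : ℕ} {G : Type*} [Group G] (P : Pre n G)

theorem couple3 {i j k : Fin n} (hij : i ≠ j) (hik : i ≠ k) (hjk : j ≠ k) (x y z : ℤ) (hs : x + y + z = 0) :
    ∃ v : Fin n → ℤ, ∑ t, v t = 0 ∧ v i = x ∧ v j = y ∧ v k = z :=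
  ⟨Pi.single i x + Pi.single j y + Pi.single k z, by simpa [Finset.sum_add_distrib] using hs,
    by simp [Pi.single_apply, hij, hik], by simp [Pi.single_apply, hij.symm, hjk],
    by simp [Pi.single_apply, hik.symm, hjk.symm]⟩

theorem couple4 {i j k l : Fin n} (hij : i ≠ j) (hik : i ≠ k) (hil : i ≠ l) (hjk : j ≠ k) (hjl : j ≠ l)
    (hkl : k ≠ l) (x y z w : ℤ) (hs : x + y + z + w = 0) :
    ∃ v : Fin n → ℤ, ∑ t, v t = 0 ∧ v i = x ∧ v j = y ∧ v k = z ∧ v l = w :=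
  ⟨Pi.single i x + Pi.single j y + Pi.single k z + Pi.single l w,
    by simpa [Finset.sum_add_distrib] using hs,
    by simp [Pi.single_apply, hij, hik, hil], by simp [Pi.single_apply, hij.symm, hjk, hjl],
    by simp [Pi.single_apply, hik.symm, hjk.symm, hkl],
    by simp [Pi.single_apply, hil.symm, hjl.symm, hkl.symm]⟩

theorem cpl_c1_four {i j k l : Fin n} (hij : i ≠ j) (hik : i ≠ k) (hil : i ≠ l) (hjk : j ≠ k) (hjl : j ≠ l)
    (hkl : k ≠ l) (a b : ℤ) : P.Coupled i j i k a b := by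
  obtain ⟨v, h0, h1, h2, h3, -⟩ := couple4 hij hik hil hjk hjl hkl 0 (-a) (-b) (a + b) (by ring)
  exact ⟨v, h0, by rw [h1, h2]; ring, by rw [h1, h3]; ring⟩

theorem cpl_c2_four {i j k l : Fin n} (hij : i ≠ j) (hik : i ≠ k) (hil : i ≠ l) (hjk : j ≠ k) (hjl : j ≠ l)
    (hkl : k ≠ l) (a b : ℤ) : P.Coupled i j k j a b := by
  obtain ⟨v, h0, h1, h2, h3, -⟩ := couple4 hij hik hil hjk hjl hkl a 0 b (-a - b) (by ring)
  exact ⟨v, h0, by rw [h1, h2]; ring, by rw [h2, h3]; ring⟩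

theorem cpl_br_four {i j k l : Fin n} (hij : i ≠ j) (hik : i ≠ k) (hil : i ≠ l) (hjk : j ≠ k) (hjl : j ≠ l)
    (hkl : k ≠ l) (a b : ℤ) : P.Coupled i j j k a b := by
  obtain ⟨v, h0, h1, h2, h3, -⟩ := couple4 hij hik hil hjk hjl hkl a 0 (-b) (b - a) (by ring)
  exact ⟨v, h0, by rw [h1, h2]; ring, by rw [h2, h3]; ring⟩

theorem cos_c3 {i j k l : Fin n} (hij : i ≠ j) (hik : i ≠ k) (hil : i ≠ l) (hjk : j ≠ k) (hjl : j ≠ l)
    (hkl : k ≠ l) : P.Cos 2 i j k l := fun b => ⟨-b, fun m => by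
  obtain ⟨v, h0, h1, h2, h3, h4⟩ := couple4 hij hik hil hjk hjl hkl (-b + 2 * m - m) (-(m : ℤ)) b 0 (by ring)
  exact ⟨v, h0, by rw [h1, h2]; push_cast; ring, by rw [h3, h4]; ring⟩⟩

theorem cpl_c1_three {i j k : Fin n} (hij : i ≠ j) (hik : i ≠ k) (hjk : j ≠ k) (a b : ℤ)
    (h : (3 : ℤ) ∣ a + b) : P.Coupled i j i k a b := by
  obtain ⟨m, hm⟩ := h
  obtain ⟨v, h0, h1, h2, h3⟩ := couple3 hij hik hjk m (m - a) (m - b) (by linarith)
  exact ⟨v, h0, by rw [h1, h2]; ring, by rw [h1, h3]; ring⟩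

theorem cpl_c2_three {i j k : Fin n} (hij : i ≠ j) (hik : i ≠ k) (hjk : j ≠ k) (a b : ℤ)
    (h : (3 : ℤ) ∣ a + b) : P.Coupled i j k j a b := by
  obtain ⟨m, hm⟩ := h
  obtain ⟨v, h0, h1, h2, h3⟩ := couple3 hij hik hjk (a - m) (-m) (b - m) (by linarith)
  exact ⟨v, h0, by rw [h1, h2]; ring, by rw [h2, h3]; ring⟩

theorem cpl_br_three {i j k : Fin n} (hij : i ≠ j) (hik : i ≠ k) (hjk : j ≠ k) (a b : ℤ)
    (h : (3 : ℤ) ∣ a - b) : P.Coupled i j j k a b := by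
  obtain ⟨m, hm⟩ := h
  obtain ⟨v, h0, h1, h2, h3⟩ := couple3 hij hik hjk (a - m) (-m) (-m - b) (by linarith)
  exact ⟨v, h0, by rw [h1, h2]; ring, by rw [h2, h3]; ring⟩

theorem fourth {N : ℕ} (hN : 1 ≤ N) (i j k : Fin (N + 3)) : ∃ l, l ≠ i ∧ l ≠ j ∧ l ≠ k := by
  by_contra hcon
  push Not at hcon
  have h1 := Finset.card_le_card (fun l _ => show l ∈ ({i, j, k} : Finset (Fin (N + 3))) by
    simp only [Finset.mem_insert, Finset.mem_singleton]
    by_cases h1 : l = i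
    · exact Or.inl h1
    by_cases h2 : l = j
    · exact Or.inr (Or.inl h2)
    exact Or.inr (Or.inr (hcon l h1 h2)) : (Finset.univ : Finset (Fin (N + 3))) ⊆ {i, j, k})
  have h2 : ({i, j, k} : Finset (Fin (N + 3))).card ≤ 3 := Finset.card_le_three
  rw [Finset.card_univ, Fintype.card_fin] at h1
  omega

end Coupling

variable {F : Type*} [Field F] [Fintype F] (D : FData F) {N : ℕ} {G : Type*} [Group G]

/-- The relations between the root elements. -/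
structure Base.Roots (B : Base N G) : Prop where
  c1 : Commute (B.xf 0 1) (B.xf 0 2)
  c2 : Commute (B.xf 0 1) (B.xf 2 1)
  c3 : ∀ i j k l, i ≠ j → i ≠ k → i ≠ l → j ≠ k → j ≠ l → k ≠ l → Commute (B.xf i j) (B.xf k l)
  br : ∀ i j k, i ≠ j → i ≠ k → j ≠ k → ⁅B.xf i j, B.xf j k⁆ = B.xf i k
  p : B.x ^ D.p = 1
  m : CfsgLib.SL2Pres.ev (B.hf 0 2) B.x 1 D.m = 1

namespace Base

variable {D} {B : Base N G} (T : B.Torus) (R : B.Roots D)

include R in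
theorem c1_all (i j k : Fin (N + 3)) (hij : i ≠ j) (hik : i ≠ k) (hjk : j ≠ k) :
    Commute (B.xf i j) (B.xf i k) := by
  refine all_triples (π₀ := swap (1 : Fin (N + 3)) 2) (sign_swap n12) n01 n02 n12
    (fun i j k => Commute (B.xf i j) (B.xf i k)) ?_ R.c1 ?_ i j k hij hik hjk
  · intro σ i j k hij hik _ hc
    rw [B.xf_equiv σ hij, B.xf_equiv σ hik]
    exact hc.conj (B.ρ σ)
  · rw [swap_apply_of_ne_of_ne n01 n02, swap_apply_left, swap_apply_right]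
    exact R.c1.symm

include R in
theorem c2_all (i j k : Fin (N + 3)) (hij : i ≠ j) (hik : i ≠ k) (hjk : j ≠ k) :
    Commute (B.xf i j) (B.xf k j) := by
  refine all_triples (π₀ := swap (0 : Fin (N + 3)) 2) (sign_swap n02) n01 n02 n12
    (fun i j k => Commute (B.xf i j) (B.xf k j)) ?_ R.c2 ?_ i j k hij hik hjk
  · intro σ i j k hij _ hjk hc
    rw [B.xf_equiv σ hij, B.xf_equiv σ (Ne.symm hjk)]
    exact hc.conj (B.ρ σ)
  · rw [swap_apply_left, swap_apply_of_ne_of_ne n01.symm n12, swap_apply_right]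
    exact R.c2.symm

theorem E_equiv (σ : AG N) {i j : Fin (N + 3)} (h : i ≠ j) (k : ℤ) :
    B.ρ σ * T.pre.E i j k * (B.ρ σ)⁻¹ =
      T.pre.E ((σ : Perm (Fin (N + 3))) i) ((σ : Perm (Fin (N + 3))) j) k := by
  set v := T.pre.vk i j k with hv
  have hs : ∑ t, (v ∘ ((σ : Perm (Fin (N + 3)))⁻¹ : Perm (Fin (N + 3)))) t = 0 :=
    (Equiv.sum_comp ((σ : Perm (Fin (N + 3)))⁻¹) v).trans (T.pre.sum_vk i j k)
  have e : B.ρ σ * T.pre.E i j k * (B.ρ σ)⁻¹ =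
      (B.ρ σ * T.τ v * (B.ρ σ)⁻¹) * (B.ρ σ * B.xf i j * (B.ρ σ)⁻¹) * (B.ρ σ * T.τ v * (B.ρ σ)⁻¹)⁻¹ := by
    show B.ρ σ * (T.τ v * B.xf i j * (T.τ v)⁻¹) * (B.ρ σ)⁻¹ = _
    group
  rw [e, T.τ_equiv σ v (T.pre.sum_vk i j k), ← B.xf_equiv σ h]
  refine (T.pre.τ_conj_x ((σ : Perm (Fin (N + 3))).injective.ne h) _ hs).trans ?_
  congr 1
  simpa [hv] using T.pre.vk_val h k

include R in
theorem cj_eq (i : ℕ) : CfsgLib.SL2Pres.cj (T.pre.τ (T.pre.vk 0 1 1)) (B.xf 0 1) i =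
    CfsgLib.SL2Pres.cj (B.hf 0 2) B.x i := by
  have key : ∀ (v : Fin (N + 3) → ℤ), ∑ t, v t = 0 → v 0 - v 1 = 1 →
      CfsgLib.SL2Pres.cj (T.pre.τ v) (B.xf 0 1) i = T.pre.E 0 1 i := by
    intro v hv h1
    induction i with
    | zero => rw [CfsgLib.SL2Pres.cj_zero, Nat.cast_zero, T.pre.E_zero n01]; rfl
    | succ k ih =>
      rw [add_comm k 1, ← CfsgLib.SL2Pres.cj_conj, ih, pow_one, T.pre.τ_conj_E n01 v hv, h1,
        Nat.cast_add, Nat.cast_one]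
  rw [key _ (T.pre.sum_vk 0 1 1) (T.pre.vk_val n01 1)]
  have hv : ∑ t, (((Pi.single (0 : Fin (N + 3)) (1 : ℤ) : Fin (N + 3) → ℤ) - Pi.single 2 1) : Fin (N + 3) → ℤ) t = 0 := by
    simp [Finset.sum_sub_distrib]
  have := key _ hv (by simp [n01.symm, n02, n12])
  rw [← this]
  rw [show T.pre.τ = T.τ from rfl, T.τ_diff n02, B.xf01]

include R in
theorem lin01 (hcomm : ∀ a b, Commute (T.pre.E 0 1 a) (T.pre.E 0 1 b)) :
    ∃ φ : Multiplicative F →* G, T.pre.Lin D 0 1 φ := by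
  refine T.pre.lin_of_commute D n01 hcomm (by show B.xf 0 1 ^ D.p = 1; rw [B.xf01]; exact R.p) ?_
  have := R.m
  unfold CfsgLib.SL2Pres.ev at this ⊢
  show ((List.range _).map fun i => CfsgLib.SL2Pres.cj _ (B.xf 0 1) (1 * i) ^ D.m.coeff i).prod = 1
  simp only [cj_eq T R]
  exact this

theorem lin_all (h01 : ∃ φ : Multiplicative F →* G, T.pre.Lin D 0 1 φ)
    (h10 : ∃ φ : Multiplicative F →* G, T.pre.Lin D 1 0 φ) :
    ∀ i j : Fin (N + 3), i ≠ j → ∃ φ : Multiplicative F →* G, T.pre.Lin D i j φ := by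
  have key : ∀ (σ : AG N) (i j : Fin (N + 3)), i ≠ j →
      (∃ φ : Multiplicative F →* G, T.pre.Lin D i j φ) →
      ∃ φ : Multiplicative F →* G,
        T.pre.Lin D ((σ : Perm (Fin (N + 3))) i) ((σ : Perm (Fin (N + 3))) j) φ := by
    rintro σ i j hij ⟨φ, hφ⟩
    refine ⟨(MulAut.conj (B.ρ σ)).toMonoidHom.comp φ, fun k => ?_⟩
    show B.ρ σ * φ _ * (B.ρ σ)⁻¹ = _
    rw [hφ, E_equiv T σ hij]
  intro i j hij
  rcases pair_cases hij with ⟨σ, rfl, rfl⟩ | ⟨σ, rfl, rfl, -⟩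
  · exact key σ 0 1 n01 h01
  · exact key σ 1 0 n01.symm h10

include R in
/-- Degree at least four. -/
theorem raw_four (hN : 1 ≤ N) :
    ∃ φ : Fin (N + 3) → Fin (N + 3) → Multiplicative F →* G,
      (∀ i j, i ≠ j → T.pre.Lin D i j (φ i j)) ∧
      CfsgLib.StSL.Raw (fun i j t => φ i j (Multiplicative.ofAdd t)) := by
  classical
  have n21 : (2 : Fin (N + 3)) ≠ 1 := n12.symm
  obtain ⟨l, l0, l1, l2⟩ := fourth hN (0 : Fin (N + 3)) 1 2
  have hcomm : ∀ a b, Commute (T.pre.E 0 1 a) (T.pre.E 0 1 b) := by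
    intro a b
    have e : ⁅T.pre.E 0 2 a, T.pre.E 2 1 0⁆ = T.pre.E 0 1 a := by
      have := T.pre.bracket_E n02 n21 n01 (R.br 0 2 1 n02 n01 n21)
        (cpl_br_four T.pre n02 n01 l0.symm n21 l2.symm l1.symm a 0)
      simpa using this
    rw [← e, commutatorElement_def]
    have h1 : Commute (T.pre.E 0 2 a) (T.pre.E 0 1 b) := T.pre.commute_E n02 n01
      (c1_all R 0 2 1 n02 n01 n21) (cpl_c1_four T.pre n02 n01 l0.symm n21 l2.symm l1.symm a b)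
    have h2 : Commute (T.pre.E 2 1 0) (T.pre.E 0 1 b) := T.pre.commute_E n21 n01
      (c2_all R 2 1 0 n21 n02.symm n01.symm)
      (cpl_c2_four T.pre n21 n02.symm l2.symm n01.symm l1.symm l0.symm 0 b)
    exact ((h1.mul_left h2).mul_left h1.inv_left).mul_left h2.inv_left
  have h01 := lin01 T R hcomm
  have h10 : ∃ φ : Multiplicative F →* G, T.pre.Lin D 1 0 φ := by
    let σ : AG N := ⟨swap (0 : Fin (N + 3)) 1 * swap 2 l, mem_alternatingGroup.2 (by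
      rw [map_mul, sign_swap n01, sign_swap l2.symm]; rfl)⟩
    obtain ⟨φ, hφ⟩ := h01
    refine ⟨(MulAut.conj (B.ρ σ)).toMonoidHom.comp φ, fun k => ?_⟩
    show B.ρ σ * φ _ * (B.ρ σ)⁻¹ = _
    rw [hφ, E_equiv T σ n01]
    simp only [σ, Perm.mul_apply, swap_apply_of_ne_of_ne n02 l0.symm, swap_apply_of_ne_of_ne n12 l1.symm,
      swap_apply_left, swap_apply_right]
  choose φ₀ hφ₀ using lin_all T h01 h10
  let φ : Fin (N + 3) → Fin (N + 3) → Multiplicative F →* G := fun i j =>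
    if h : i ≠ j then φ₀ i j h else 1
  have hφ : ∀ i j, i ≠ j → T.pre.Lin D i j (φ i j) := fun i j h => by
    simp only [φ, dif_pos h]; exact hφ₀ i j h
  refine ⟨φ, hφ, T.pre.raw_of D (d := 2) D.gen2 φ hφ ?_ ?_ ?_ ?_⟩
  · intro i j k hij hik hjk
    obtain ⟨l, li, lj, lk⟩ := fourth hN i j k
    exact ⟨c1_all R i j k hij hik hjk, fun b => ⟨0, fun m =>
      cpl_c1_four T.pre hij hik li.symm hjk lj.symm lk.symm _ b⟩⟩
  · intro i j k hij hkj hik
    obtain ⟨l, li, lj, lk⟩ := fourth hN i j k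
    exact ⟨c2_all R i j k hij hik hkj.symm, fun b => ⟨0, fun m =>
      cpl_c2_four T.pre hij hik li.symm hkj.symm lj.symm lk.symm _ b⟩⟩
  · intro i j k l hij hkl hik hil hjk hjl
    exact ⟨R.c3 i j k l hij hik hil hjk hjl hkl, cos_c3 T.pre hij hik hil hjk hjl hkl⟩
  · intro i j k hij hjk hik
    obtain ⟨l, li, lj, lk⟩ := fourth hN i j k
    exact ⟨R.br i j k hij hik hjk, fun b => ⟨0, fun m =>
      cpl_br_four T.pre hij hik li.symm hjk lj.symm lk.symm _ b⟩⟩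

include R in
/-- Degree three, more than four field elements. -/
theorem raw_three (hN : N = 0) (h4 : Fintype.card F ≠ 4) (G₀ : ℤ[X]) (hG₀ : aeval (D.ω ^ 3) G₀ = D.ω)
    (hcl : CfsgLib.SL2Pres.cj (B.hf 0 2) B.x 1 = CfsgLib.SL2Pres.ev (B.hf 0 2) B.x 3 G₀) :
    ∃ φ : Fin (N + 3) → Fin (N + 3) → Multiplicative F →* G,
      (∀ i j, i ≠ j → T.pre.Lin D i j (φ i j)) ∧
      CfsgLib.StSL.Raw (fun i j t => φ i j (Multiplicative.ofAdd t)) := by
  classical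
  subst hN
  have := hG₀
  have hcpl1 : ∀ i j k : Fin (0 + 3), i ≠ j → i ≠ k → j ≠ k → T.pre.Cos 3 i j i k :=
    fun i j k hij hik hjk b => ⟨-b, fun m => cpl_c1_three T.pre hij hik hjk _ b ⟨m, by push_cast; ring⟩⟩
  have hcpl2 : ∀ i j k : Fin (0 + 3), i ≠ j → i ≠ k → j ≠ k → T.pre.Cos 3 i j k j :=
    fun i j k hij hik hjk b => ⟨-b, fun m => cpl_c2_three T.pre hij hik hjk _ b ⟨m, by push_cast; ring⟩⟩
  have n21 : (2 : Fin (0 + 3)) ≠ 1 := n12.symm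
  -- the subgroup of the values divisible by three
  set K := Subgroup.closure (Set.range fun a : ℤ => T.pre.E 0 1 (3 * a)) with hK
  have hgenK : ∀ a b : ℤ, Commute (T.pre.E 0 1 (3 * a)) (T.pre.E 0 1 (3 * b)) := by
    intro a b
    have e : ⁅T.pre.E 0 2 (3 * a), T.pre.E 2 1 0⁆ = T.pre.E 0 1 (3 * a) := by
      have := T.pre.bracket_E n02 n21 n01 (R.br 0 2 1 n02 n01 n21)
        (cpl_br_three T.pre n02 n01 n21 (3 * a) 0 ⟨a, by ring⟩)
      simpa using this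
    have h1 : Commute (T.pre.E 0 2 (3 * a)) (T.pre.E 0 1 (3 * b)) := T.pre.commute_E n02 n01
      (c1_all R 0 2 1 n02 n01 n21) (cpl_c1_three T.pre n02 n01 n21 _ _ ⟨a + b, by ring⟩)
    have h2 : Commute (T.pre.E 2 1 0) (T.pre.E 0 1 (3 * b)) := T.pre.commute_E n21 n01
      (c2_all R 2 1 0 n21 n02.symm n01.symm)
      (cpl_c2_three T.pre n21 n02.symm n01.symm _ _ ⟨b, by ring⟩)
    rw [← e, commutatorElement_def]
    exact ((h1.mul_left h2).mul_left h1.inv_left).mul_left h2.inv_left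
  have shift : ∀ (c : ℤ), (∀ a, T.pre.E 0 1 (c + 3 * a) ∈ K) → ∀ u ∈ K,
      T.pre.τ (T.pre.vk 0 1 c) * u * (T.pre.τ (T.pre.vk 0 1 c))⁻¹ ∈ K := by
    intro c hc u hu
    have h := Subgroup.mem_map_of_mem (MulAut.conj (T.pre.τ (T.pre.vk 0 1 c))).toMonoidHom hu
    rw [hK, MonoidHom.map_closure] at h
    refine ((Subgroup.closure_le K).2 ?_) h
    rintro _ ⟨_, ⟨a, rfl⟩, rfl⟩
    show T.pre.τ _ * T.pre.E 0 1 (3 * a) * (T.pre.τ _)⁻¹ ∈ K
    rw [T.pre.τ_conj_E n01 _ (T.pre.sum_vk 0 1 c), T.pre.vk_val n01]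
    exact hc a
  have k0 : ∀ a, T.pre.E 0 1 (3 * a) ∈ K := fun a => Subgroup.subset_closure ⟨a, rfl⟩
  have kone : T.pre.E 0 1 1 ∈ K := by
    have e : ∀ i : ℕ, CfsgLib.SL2Pres.cj (B.hf 0 2) B.x i = T.pre.E 0 1 i := by
      intro i
      rw [← cj_eq T R]
      induction i with
      | zero => rw [CfsgLib.SL2Pres.cj_zero, Nat.cast_zero, T.pre.E_zero n01]; rfl
      | succ k ih =>
        rw [add_comm k 1, ← CfsgLib.SL2Pres.cj_conj, ih, pow_one, T.pre.τ_conj_E n01 _ (T.pre.sum_vk 0 1 1),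
          T.pre.vk_val n01, Nat.cast_add, Nat.cast_one]
    have h1 := e 1
    rw [hcl, Nat.cast_one] at h1
    rw [← h1]
    refine CfsgLib.SL2Pres.ev_mem K _ _ _ _ fun i _ => ?_
    rw [e]
    push_cast
    exact k0 i
  have k1 : ∀ a, T.pre.E 0 1 (1 + 3 * a) ∈ K := by
    intro a
    have := shift (3 * a) (fun b => by rw [← mul_add]; exact k0 _) _ kone
    rw [T.pre.τ_conj_E n01 _ (T.pre.sum_vk 0 1 _), T.pre.vk_val n01] at this
    simpa only [add_comm] using this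
  have k2 : ∀ a, T.pre.E 0 1 (2 + 3 * a) ∈ K := by
    intro a
    have := shift 1 k1 _ (k1 a)
    rwa [T.pre.τ_conj_E n01 _ (T.pre.sum_vk 0 1 _), T.pre.vk_val n01, ← add_assoc,
      show (1 : ℤ) + 1 = 2 from rfl] at this
  have kall : ∀ a, T.pre.E 0 1 a ∈ K := by
    intro a
    obtain ⟨q, h | h | h⟩ : ∃ q : ℤ, a = 3 * q ∨ a = 1 + 3 * q ∨ a = 2 + 3 * q := ⟨a / 3, by omega⟩
    · rw [h]; exact k0 q
    · rw [h]; exact k1 q
    · rw [h]; exact k2 q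
  have hcomm : ∀ a b, Commute (T.pre.E 0 1 a) (T.pre.E 0 1 b) := fun a b =>
    CfsgLib.SL2Pres.commute_of_mem_closure (by rintro _ ⟨u, rfl⟩ _ ⟨v, rfl⟩; exact hgenK u v) (kall a) (kall b)
  have h01 := lin01 T R hcomm
  have h10 : ∃ φ : Multiplicative F →* G, T.pre.Lin D 1 0 φ := by
    -- `(1, 2)` and `(2, 0)` are images of `(0, 1)`
    have hc3 : sign (swap (0 : Fin (0 + 3)) 2 * swap 0 1) = 1 := by
      rw [map_mul, sign_swap n02, sign_swap n01]; rfl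
    let σ : AG 0 := ⟨swap (0 : Fin (0 + 3)) 2 * swap 0 1, mem_alternatingGroup.2 hc3⟩
    have hs0 : (σ : Perm (Fin (0 + 3))) 0 = 1 := by
      show (swap (0 : Fin 3) 2 * swap 0 1 : Perm (Fin 3)) 0 = 1
      decide
    have hs1 : (σ : Perm (Fin (0 + 3))) 1 = 2 := by
      show (swap (0 : Fin 3) 2 * swap 0 1 : Perm (Fin 3)) 1 = 2
      decide
    have hs2 : (σ : Perm (Fin (0 + 3))) 2 = 0 := by
      show (swap (0 : Fin 3) 2 * swap 0 1 : Perm (Fin 3)) 2 = 0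
      decide
    obtain ⟨φ, hφ⟩ := h01
    have l12 : T.pre.Lin D 1 2 ((MulAut.conj (B.ρ σ)).toMonoidHom.comp φ) := fun k => by
      show B.ρ σ * φ _ * (B.ρ σ)⁻¹ = _
      rw [hφ, E_equiv T σ n01, hs0, hs1]
    have l20 : T.pre.Lin D 2 0 ((MulAut.conj (B.ρ σ)).toMonoidHom.comp
        ((MulAut.conj (B.ρ σ)).toMonoidHom.comp φ)) := fun k => by
      show B.ρ σ * _ * (B.ρ σ)⁻¹ = _
      rw [l12, E_equiv T σ n12, hs1, hs2]
    refine T.pre.lin_of_bracket D (D.gen3 h4) n12 n02.symm n01.symm l12 l20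
      (R.br 1 2 0 n12 n01.symm n02.symm) (cpl_br_three T.pre n12 n01.symm n02.symm)
      ⟨c1_all R 1 2 0 n12 n01.symm n02.symm, hcpl1 1 2 0 n12 n01.symm n02.symm⟩
      ⟨c2_all R 2 0 1 n02.symm n21 n01, hcpl2 2 0 1 n02.symm n21 n01⟩
  choose φ₀ hφ₀ using lin_all T h01 h10
  let φ : Fin (0 + 3) → Fin (0 + 3) → Multiplicative F →* G := fun i j =>
    if h : i ≠ j then φ₀ i j h else 1
  have hφ : ∀ i j, i ≠ j → T.pre.Lin D i j (φ i j) := fun i j h => by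
    simp only [φ, dif_pos h]; exact hφ₀ i j h
  refine ⟨φ, hφ, T.pre.raw_of D (d := 3) (D.gen3 h4) φ hφ ?_ ?_ ?_ ?_⟩
  · exact fun i j k hij hik hjk => ⟨c1_all R i j k hij hik hjk, hcpl1 i j k hij hik hjk⟩
  · exact fun i j k hij hkj hik => ⟨c2_all R i j k hij hik hkj.symm, hcpl2 i j k hij hik hkj.symm⟩
  · intro i j k l hij hkl hik hil hjk hjl
    exfalso
    rw [ne_eq, Fin.ext_iff] at hij hkl hik hil hjk hjl
    have := i.isLt; have := j.isLt; have := k.isLt; have := l.isLt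
    omega
  · intro i j k hij hjk hik
    exact ⟨R.br i j k hij hik hjk, fun b => ⟨b, fun m =>
      cpl_br_three T.pre hij hik hjk _ b ⟨m, by push_cast; ring⟩⟩⟩

end Base

end CfsgLib.SLShort
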