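import Cfsg.Agent.Lib.SLShort.Field
import Cfsg.Agent.Lib.StSL.Presentation

/-!
# Root elements moved by a torus: from a few relations to the Steinberg relations
-/

namespace CfsgLib.SLShort

open Polynomial
open scoped commutatorElement

/-- A torus and root elements fixed by the kernels of the roots. -/
structure Pre (n : ℕ) (G : Type*) [Group G] where
  τ : (Fin n → ℤ) → G
  τ_add : ∀ v w, τ (v + w) = τ v * τ w
  x : Fin n → Fin n → G
  fix : ∀ i j, i ≠ j → ∀ v : Fin n → ℤ, ∑ t, v t = 0 → v i = v j → Commute (τ v) (x i j)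
  other : Fin n → Fin n → Fin n
  other_ne : ∀ i j, other i j ≠ i ∧ other i j ≠ j

namespace Pre

variable {n : ℕ} {G : Type*} [Group G] (P : Pre n G)

theorem τ_zero : P.τ 0 = 1 := by
  have := P.τ_add 0 0
  rw [add_zero] at this
  exact left_eq_mul.1 this

theorem τ_neg (v : Fin n → ℤ) : P.τ (-v) = (P.τ v)⁻¹ := by
  rw [eq_inv_iff_mul_eq_one, ← P.τ_add, neg_add_cancel, P.τ_zero]

theorem τ_comm (v w : Fin n → ℤ) : Commute (P.τ v) (P.τ w) := by
  show P.τ v * P.τ w = P.τ w * P.τ v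
  rw [← P.τ_add, ← P.τ_add, add_comm]

/-- A weight vector with value `k` on the root. -/
def vk (i j : Fin n) (k : ℤ) : Fin n → ℤ := Pi.single i k - Pi.single (P.other i j) k

theorem sum_vk (i j : Fin n) (k : ℤ) : ∑ t, P.vk i j k t = 0 := by
  simp [vk, Finset.sum_sub_distrib]

theorem vk_val {i j : Fin n} (h : i ≠ j) (k : ℤ) : P.vk i j k i - P.vk i j k j = k := by
  simp [vk, Pi.single_apply, (P.other_ne i j).1.symm, (P.other_ne i j).2.symm, h.symm]

/-- The root element with parameter a power of the field generator. -/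
def E (i j : Fin n) (k : ℤ) : G := P.τ (P.vk i j k) * P.x i j * (P.τ (P.vk i j k))⁻¹

theorem τ_conj_x {i j : Fin n} (h : i ≠ j) (v : Fin n → ℤ) (hv : ∑ t, v t = 0) :
    P.τ v * P.x i j * (P.τ v)⁻¹ = P.E i j (v i - v j) := by
  set w := P.vk i j (v i - v j) with hw
  have h1 : ∑ t, (v - w) t = 0 := by
    simp only [Pi.sub_apply, Finset.sum_sub_distrib, hv, hw, P.sum_vk, sub_zero]
  have h2 : (v - w) i = (v - w) j := by
    have := P.vk_val h (v i - v j)
    simp only [Pi.sub_apply, hw]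
    linarith
  have h3 := (P.fix i j h _ h1 h2).eq
  have h4 : P.τ v = P.τ w * P.τ (v - w) := by rw [← P.τ_add, add_sub_cancel]
  rw [h4, E, ← hw]
  calc P.τ w * P.τ (v - w) * P.x i j * (P.τ w * P.τ (v - w))⁻¹
      = P.τ w * (P.τ (v - w) * P.x i j) * (P.τ (v - w))⁻¹ * (P.τ w)⁻¹ := by group
    _ = P.τ w * P.x i j * (P.τ w)⁻¹ := by rw [h3]; group

theorem τ_conj_E {i j : Fin n} (h : i ≠ j) (v : Fin n → ℤ) (hv : ∑ t, v t = 0) (k : ℤ) :
    P.τ v * P.E i j k * (P.τ v)⁻¹ = P.E i j (v i - v j + k) := by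
  have e : P.τ v * P.E i j k * (P.τ v)⁻¹ =
      P.τ (v + P.vk i j k) * P.x i j * (P.τ (v + P.vk i j k))⁻¹ := by
    rw [P.τ_add, E]; group
  rw [e, P.τ_conj_x h _ (by simp [Finset.sum_add_distrib, hv, P.sum_vk])]
  congr 1
  have := P.vk_val h k
  simp only [Pi.add_apply]
  linarith

theorem E_zero {i j : Fin n} (h : i ≠ j) : P.E i j 0 = P.x i j := by
  have := P.τ_conj_x h 0 (by simp)
  rw [P.τ_zero] at this
  simpa using this.symm

/-- Two roots take the prescribed values at some weight. -/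
def Coupled (_P : Pre n G) (i j k l : Fin n) (a b : ℤ) : Prop :=
  ∃ v : Fin n → ℤ, ∑ t, v t = 0 ∧ v i - v j = a ∧ v k - v l = b

theorem commute_E {i j k l : Fin n} (hij : i ≠ j) (hkl : k ≠ l) (h : Commute (P.x i j) (P.x k l))
    {a b : ℤ} (hc : P.Coupled i j k l a b) : Commute (P.E i j a) (P.E k l b) := by
  obtain ⟨v, hv, rfl, rfl⟩ := hc
  rw [← P.τ_conj_x hij v hv, ← P.τ_conj_x hkl v hv]
  exact h.conj (P.τ v)

theorem bracket_E {i j k : Fin n} (hij : i ≠ j) (hjk : j ≠ k) (hik : i ≠ k)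
    (h : ⁅P.x i j, P.x j k⁆ = P.x i k) {a b : ℤ} (hc : P.Coupled i j j k a b) :
    ⁅P.E i j a, P.E j k b⁆ = P.E i k (a + b) := by
  obtain ⟨v, hv, rfl, rfl⟩ := hc
  rw [← P.τ_conj_x hij v hv, ← P.τ_conj_x hjk v hv, show v i - v j + (v j - v k) = v i - v k by ring,
    ← P.τ_conj_x hik v hv, ← h]
  simp only [commutatorElement_def]
  group

variable {F : Type*} [Field F] [Fintype F] (D : FData F)

/-- The root elements are additive in the field. -/
def Lin (i j : Fin n) (φ : Multiplicative F →* G) : Prop :=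
  ∀ k : ℤ, φ (Multiplicative.ofAdd (D.ω ^ k)) = P.E i j k

/-- Pairs of values in a coset of `d`. -/
def Cos (d : ℕ) (i j k l : Fin n) : Prop :=
  ∀ b : ℤ, ∃ a₀ : ℤ, ∀ m : ℕ, P.Coupled i j k l (a₀ + d * m) b

end Pre

variable {F : Type*} [Field F] [Fintype F] (D : FData F)

theorem FData.full (S : AddSubgroup F) {d : ℕ} (hgen : ∀ a : F, ∃ P : ℤ[X], aeval (D.ω ^ d) P = a)
    (a₀ : ℤ) (h : ∀ m : ℕ, D.ω ^ (a₀ + d * m) ∈ S) (s : F) : s ∈ S := by
  obtain ⟨P, hP⟩ := hgen ((D.ω ^ a₀)⁻¹ * s)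
  have hs : s = D.ω ^ a₀ * aeval (D.ω ^ d) P := by
    rw [hP, ← mul_assoc, mul_inv_cancel₀ (zpow_ne_zero _ D.hω), one_mul]
  rw [hs, aeval_eq_sum_range, Finset.mul_sum]
  refine S.sum_mem fun i _ => ?_
  rw [mul_smul_comm]
  refine S.zsmul_mem ?_ _
  have := h i
  rwa [zpow_add₀ D.hω, show ((d : ℤ) * (i : ℤ)) = ((d * i : ℕ) : ℤ) by simp, zpow_natCast, pow_mul] at this

namespace Pre

variable {n : ℕ} {G : Type*} [Group G] (P : Pre n G) {d : ℕ}

/-- Commuting with a whole root group from a coset of values. -/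
theorem full_left (hgen : ∀ a : F, ∃ Q : ℤ[X], aeval (D.ω ^ d) Q = a) {i j : Fin n}
    {φ : Multiplicative F →* G} (hφ : P.Lin D i j φ) (g : G) (a₀ : ℤ)
    (h : ∀ m : ℕ, Commute (P.E i j (a₀ + d * m)) g) (s : F) :
    Commute (φ (Multiplicative.ofAdd s)) g := by
  let S : AddSubgroup F :=
    { carrier := {s | Commute (φ (Multiplicative.ofAdd s)) g}
      zero_mem' := by show Commute _ _; rw [ofAdd_zero, map_one]; exact Commute.one_left g
      add_mem' := fun {a b} ha hb => by show Commute _ _; rw [ofAdd_add, map_mul]; exact ha.mul_left hb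
      neg_mem' := fun {a} ha => by show Commute _ _; rw [ofAdd_neg, map_inv]; exact ha.inv_left }
  exact D.full S hgen a₀ (fun m => by show Commute _ _; rw [hφ]; exact h m) s

theorem commute_E_left (hgen : ∀ a : F, ∃ Q : ℤ[X], aeval (D.ω ^ d) Q = a) {i j k l : Fin n}
    (hij : i ≠ j) (hkl : k ≠ l) {φ : Multiplicative F →* G} (hφ : P.Lin D i j φ)
    (h : Commute (P.x i j) (P.x k l)) (hc : P.Cos d i j k l) (s : F) (b : ℤ) :
    Commute (φ (Multiplicative.ofAdd s)) (P.E k l b) := by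
  obtain ⟨a₀, ha⟩ := hc b
  exact P.full_left D hgen hφ _ a₀ (fun m => P.commute_E hij hkl h (ha m)) s

theorem commute_full (hgen : ∀ a : F, ∃ Q : ℤ[X], aeval (D.ω ^ d) Q = a) {i j k l : Fin n}
    (hij : i ≠ j) (hkl : k ≠ l) {φ ψ : Multiplicative F →* G} (hφ : P.Lin D i j φ) (hψ : P.Lin D k l ψ)
    (h : Commute (P.x i j) (P.x k l)) (hc : P.Cos d i j k l) (s t : F) :
    Commute (φ (Multiplicative.ofAdd s)) (ψ (Multiplicative.ofAdd t)) :=
  (P.full_left D hgen hψ _ 0 (fun m => (P.commute_E_left D hgen hij hkl hφ h hc s _).symm) t).symm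

theorem bracket_full (hgen : ∀ a : F, ∃ Q : ℤ[X], aeval (D.ω ^ d) Q = a) {i j k : Fin n}
    (hij : i ≠ j) (hjk : j ≠ k) (hik : i ≠ k) {φ ψ χ : Multiplicative F →* G}
    (hφ : P.Lin D i j φ) (hψ : P.Lin D j k ψ) (hχ : P.Lin D i k χ)
    (h : ⁅P.x i j, P.x j k⁆ = P.x i k) (hc : P.Cos d i j j k)
    (h1 : ∀ s t, Commute (φ (Multiplicative.ofAdd s)) (χ (Multiplicative.ofAdd t)))
    (h2 : ∀ s t, Commute (ψ (Multiplicative.ofAdd s)) (χ (Multiplicative.ofAdd t))) (s t : F) :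
    ⁅φ (Multiplicative.ofAdd s), ψ (Multiplicative.ofAdd t)⁆ = χ (Multiplicative.ofAdd (s * t)) := by
  have left : ∀ b : ℤ, ∀ s : F,
      ⁅φ (Multiplicative.ofAdd s), P.E j k b⁆ = χ (Multiplicative.ofAdd (s * D.ω ^ b)) := by
    intro b
    let S : AddSubgroup F :=
      { carrier := {s | ⁅φ (Multiplicative.ofAdd s), P.E j k b⁆ = χ (Multiplicative.ofAdd (s * D.ω ^ b))}
        zero_mem' := by simp [commutatorElement_def]
        add_mem' := fun {a c} ha hc => by
          show ⁅_, _⁆ = _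
          rw [ofAdd_add, map_mul,
            show ⁅φ (Multiplicative.ofAdd a) * φ (Multiplicative.ofAdd c), P.E j k b⁆ =
              φ (Multiplicative.ofAdd a) * ⁅φ (Multiplicative.ofAdd c), P.E j k b⁆ *
                (φ (Multiplicative.ofAdd a))⁻¹ * ⁅φ (Multiplicative.ofAdd a), P.E j k b⁆ by
              simp only [commutatorElement_def]; group,
            show ⁅_, _⁆ = _ from ha, show ⁅_, _⁆ = _ from hc, (h1 a _).eq, mul_inv_cancel_right,
            ← map_mul, ← ofAdd_add]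
          congr 2; ring
        neg_mem' := fun {a} ha => by
          show ⁅_, _⁆ = _
          rw [ofAdd_neg, map_inv, neg_mul, ofAdd_neg, map_inv, ← show ⁅_, _⁆ = _ from ha,
            show ⁅(φ (Multiplicative.ofAdd a))⁻¹, P.E j k b⁆ = (φ (Multiplicative.ofAdd a))⁻¹ *
              ⁅φ (Multiplicative.ofAdd a), P.E j k b⁆⁻¹ * φ (Multiplicative.ofAdd a) by
              simp only [commutatorElement_def]; group,
            show ⁅_, _⁆ = _ from ha]
          rw [((h1 a _).inv_right.inv_left).eq, inv_mul_cancel_right] }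
    obtain ⟨a₀, ha⟩ := hc b
    refine fun s => D.full S hgen a₀ (fun m => ?_) s
    show ⁅_, _⁆ = _
    rw [hφ, P.bracket_E hij hjk hik h (ha m), ← zpow_add₀ D.hω, hχ]
  let T : AddSubgroup F :=
    { carrier := {t | ⁅φ (Multiplicative.ofAdd s), ψ (Multiplicative.ofAdd t)⁆ = χ (Multiplicative.ofAdd (s * t))}
      zero_mem' := by simp [commutatorElement_def]
      add_mem' := fun {a c} ha hc => by
        show ⁅_, _⁆ = _
        rw [ofAdd_add, map_mul,
          show ⁅φ (Multiplicative.ofAdd s), ψ (Multiplicative.ofAdd a) * ψ (Multiplicative.ofAdd c)⁆ =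
            ⁅φ (Multiplicative.ofAdd s), ψ (Multiplicative.ofAdd a)⁆ * (ψ (Multiplicative.ofAdd a) *
              ⁅φ (Multiplicative.ofAdd s), ψ (Multiplicative.ofAdd c)⁆ * (ψ (Multiplicative.ofAdd a))⁻¹) by
            simp only [commutatorElement_def]; group,
          show ⁅_, _⁆ = _ from ha, show ⁅_, _⁆ = _ from hc, (h2 a _).eq, mul_inv_cancel_right,
          ← map_mul, ← ofAdd_add]
        congr 2; ring
      neg_mem' := fun {a} ha => by
        show ⁅_, _⁆ = _
        rw [ofAdd_neg, map_inv, mul_neg, ofAdd_neg, map_inv,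
          show ⁅φ (Multiplicative.ofAdd s), (ψ (Multiplicative.ofAdd a))⁻¹⁆ = (ψ (Multiplicative.ofAdd a))⁻¹ *
            ⁅φ (Multiplicative.ofAdd s), ψ (Multiplicative.ofAdd a)⁆⁻¹ * ψ (Multiplicative.ofAdd a) by
            simp only [commutatorElement_def]; group,
          show ⁅_, _⁆ = _ from ha, ((h2 a _).inv_right.inv_left).eq, inv_mul_cancel_right] }
  refine D.full T hgen 0 (fun m => ?_) t
  show ⁅_, _⁆ = _
  rw [hψ]
  exact left _ s

/-- The Steinberg relations. -/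
theorem raw_of (hgen : ∀ a : F, ∃ Q : ℤ[X], aeval (D.ω ^ d) Q = a)
    (φ : Fin n → Fin n → Multiplicative F →* G) (hφ : ∀ i j, i ≠ j → P.Lin D i j (φ i j))
    (c1 : ∀ i j k, i ≠ j → i ≠ k → j ≠ k → Commute (P.x i j) (P.x i k) ∧ P.Cos d i j i k)
    (c2 : ∀ i j k, i ≠ j → k ≠ j → i ≠ k → Commute (P.x i j) (P.x k j) ∧ P.Cos d i j k j)
    (c3 : ∀ i j k l, i ≠ j → k ≠ l → i ≠ k → i ≠ l → j ≠ k → j ≠ l →
      Commute (P.x i j) (P.x k l) ∧ P.Cos d i j k l)
    (br : ∀ i j k, i ≠ j → j ≠ k → i ≠ k → ⁅P.x i j, P.x j k⁆ = P.x i k ∧ P.Cos d i j j k) :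
    CfsgLib.StSL.Raw (fun i j t => φ i j (Multiplicative.ofAdd t)) := by
  have h1 : ∀ i j k, i ≠ j → i ≠ k → j ≠ k → ∀ t u,
      Commute (φ i j (Multiplicative.ofAdd t)) (φ i k (Multiplicative.ofAdd u)) := fun i j k hij hik hjk =>
    P.commute_full D hgen hij hik (hφ i j hij) (hφ i k hik) (c1 i j k hij hik hjk).1 (c1 i j k hij hik hjk).2
  have h2 : ∀ i j k, i ≠ j → k ≠ j → i ≠ k → ∀ t u,
      Commute (φ i j (Multiplicative.ofAdd t)) (φ k j (Multiplicative.ofAdd u)) := fun i j k hij hkj hik =>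
    P.commute_full D hgen hij hkj (hφ i j hij) (hφ k j hkj) (c2 i j k hij hkj hik).1 (c2 i j k hij hkj hik).2
  refine ⟨fun {i j} _ a b => by rw [ofAdd_add, map_mul], ?_, ?_⟩
  · intro i j k l hij hkl hjk hil t u
    by_cases hik : i = k
    · subst hik
      by_cases hjl : j = l
      · subst hjl; exact (Commute.all _ _).map (φ i j)
      · exact h1 i j l hij hkl hjl t u
    · by_cases hjl : j = l
      · subst hjl; exact h2 i j k hij hkl hik t u
      · exact P.commute_full D hgen hij hkl (hφ i j hij) (hφ k l hkl)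
          (c3 i j k l hij hkl hik hil hjk hjl).1 (c3 i j k l hij hkl hik hil hjk hjl).2 t u
  · intro i j k hij hjk hik t u
    exact P.bracket_full D hgen hij hjk hik (hφ i j hij) (hφ j k hjk) (hφ i k hik) (br i j k hij hjk hik).1
      (br i j k hij hjk hik).2 (h1 i j k hij hik hjk) (h2 j k i hjk hik (Ne.symm hij)) t u

/-- A commutative orbit with the two field relations is additive. -/
theorem lin_of_commute {i j : Fin n} (hij : i ≠ j)
    (hcomm : ∀ a b, Commute (P.E i j a) (P.E i j b)) (hp : P.x i j ^ D.p = 1)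
    (hm : CfsgLib.SL2Pres.ev (P.τ (P.vk i j 1)) (P.x i j) 1 D.m = 1) :
    ∃ φ : Multiplicative F →* G, P.Lin D i j φ := by
  set h := P.τ (P.vk i j 1)
  have hcj : ∀ k : ℕ, CfsgLib.SL2Pres.cj h (P.x i j) k = P.E i j k := by
    intro k
    induction k with
    | zero => rw [CfsgLib.SL2Pres.cj_zero, Nat.cast_zero, P.E_zero hij]
    | succ k ih =>
      rw [add_comm k 1, ← CfsgLib.SL2Pres.cj_conj, ih, pow_one, P.τ_conj_E hij _ (P.sum_vk i j 1),
        P.vk_val hij, Nat.cast_add, Nat.cast_one]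
  obtain ⟨φ, h1, h2⟩ := CfsgLib.SL2Pres.exists_field_hom D.ω D.gen h (P.x i j)
    (fun a b => by rw [hcj, hcj]; exact hcomm _ _) {C (D.p : ℤ), D.m} D.ker (by
      rintro Q (rfl | rfl)
      · exact ⟨0, C (D.p : ℤ), Or.inl ⟨by simp, by rw [CfsgLib.SL2Pres.ev_C, zpow_natCast, hp]⟩⟩
      · exact ⟨1, D.m, Or.inl ⟨by simp, hm⟩⟩)
  refine ⟨φ, fun k => ?_⟩
  induction k using Int.induction_on with
  | zero => rw [zpow_zero, h1, P.E_zero hij]
  | succ k ih =>
    rw [zpow_add_one₀ D.hω, mul_comm, ← h2, ih, P.τ_conj_E hij _ (P.sum_vk i j 1), P.vk_val hij, add_comm]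
  | pred k ih =>
    have e := h2 (D.ω ^ (-(k : ℤ) - 1))
    rw [← zpow_one_add₀ D.hω, show 1 + (-(k : ℤ) - 1) = -(k : ℤ) by ring, ih] at e
    calc φ (Multiplicative.ofAdd (D.ω ^ (-(k : ℤ) - 1)))
        = h⁻¹ * (h * φ (Multiplicative.ofAdd (D.ω ^ (-(k : ℤ) - 1))) * h⁻¹) * h := by group
      _ = P.τ (-P.vk i j 1) * P.E i j (-(k : ℤ)) * (P.τ (-P.vk i j 1))⁻¹ := by
        rw [e, P.τ_neg, inv_inv]
      _ = P.E i j (-(k : ℤ) - 1) := by
        rw [P.τ_conj_E hij _ (by simp [P.sum_vk])]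
        congr 1
        have := P.vk_val hij 1
        simp only [Pi.neg_apply]
        linarith

end Pre

end CfsgLib.SLShort
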