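import Cfsg.Agent.Lib.SLShort.SLSide
import Cfsg.Agent.Lib.StSL.Presentation
import Mathlib.LinearAlgebra.Matrix.Permutation
import Mathlib.GroupTheory.PresentedGroup
import Mathlib.Algebra.CharP.Lemmas
import Mathlib.FieldTheory.Finite.Basic

/-!
# Special linear groups of degree three over four elements
-/

namespace CfsgLib.SLShort.Four

open Equiv
open scoped commutatorElement

/-- Three permuting data: a three-cycle, an involution and two root elements. -/
structure Gens (G : Type*) [Group G] where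
  c : G
  s : G
  x : G
  x' : G
  c3 : c ^ 3 = 1
  sc : (s * c) ^ 2 = 1
  x2 : x ^ 2 = 1
  seq : s = x * (s * x * s⁻¹) * x

namespace Gens

variable {G : Type*} [Group G] (B : Gens G)

theorem s2 : B.s * B.s = 1 := by
  have hx : B.x * B.x = 1 := by rw [← pow_two]; exact B.x2
  calc B.s * B.s = B.x * (B.s * B.x * B.s⁻¹) * B.x * (B.x * (B.s * B.x * B.s⁻¹) * B.x) := by rw [← B.seq]
    _ = B.x * (B.s * B.x * B.s⁻¹) * (B.x * B.x) * (B.s * B.x * B.s⁻¹) * B.x := by group
    _ = B.x * B.s * (B.x * B.x) * B.s⁻¹ * B.x := by conv_lhs => rw [hx, mul_one]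
                                                    group
    _ = B.x * B.x := by rw [hx, mul_one, mul_inv_cancel_right, hx]
    _ = 1 := hx

theorem sc_eq : B.s * B.c = B.c * B.c * B.s := by
  have h : B.s * B.c * (B.s * B.c) = 1 := by rw [← pow_two]; exact B.sc
  have hc : B.c * B.c * B.c = 1 := by rw [← B.c3, pow_three']
  calc B.s * B.c = (B.s * B.c * (B.s * B.c)) * B.c⁻¹ * B.s⁻¹ := by group
    _ = (B.c * B.c * B.c) * B.c⁻¹ * B.s⁻¹ := by rw [h, hc]
    _ = B.c * B.c * B.s⁻¹ := by group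
    _ = B.c * B.c * B.s := by rw [inv_eq_of_mul_eq_one_right B.s2]

theorem s_cs : B.s * (B.c * B.s) = B.c * B.c := by
  rw [← mul_assoc, B.sc_eq, mul_assoc, B.s2, mul_one]

/-- The permuting element for an ordered pair. -/
def P : Fin 3 → Fin 3 → G
  | 0, 1 => 1
  | 1, 2 => B.c
  | 2, 0 => B.c * B.c
  | 1, 0 => B.s
  | 2, 1 => B.c * B.s
  | 0, 2 => B.c * B.c * B.s
  | _, _ => 1

/-- The three-cycle on indices. -/
def γ : Fin 3 → Fin 3 := ![1, 2, 0]
/-- The transposition on indices. -/
def τ : Fin 3 → Fin 3 := ![1, 0, 2]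

theorem P_γ : ∀ {i j : Fin 3}, i ≠ j → B.P (γ i) (γ j) = B.c * B.P i j := by
  have hc : B.c * B.c * B.c = 1 := by rw [← B.c3, pow_three']
  intro i j h
  fin_cases i <;> fin_cases j
  · exact absurd rfl h
  · exact (mul_one B.c).symm
  · show B.s = B.c * (B.c * B.c * B.s)
    rw [← mul_assoc, ← mul_assoc, hc, one_mul]
  · show B.c * B.s = B.c * B.s
    rfl
  · exact absurd rfl h
  · show B.c * B.c = B.c * B.c
    rfl
  · show (1 : G) = B.c * (B.c * B.c)
    rw [← mul_assoc, hc]
  · show B.c * B.c * B.s = B.c * (B.c * B.s)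
    rw [mul_assoc]
  · exact absurd rfl h

theorem P_τ : ∀ {i j : Fin 3}, i ≠ j → B.P (τ i) (τ j) = B.s * B.P i j := by
  have hc : B.c * B.c * B.c = 1 := by rw [← B.c3, pow_three']
  have scc : B.s * (B.c * B.c) = B.c * B.s := by
    rw [← mul_assoc, B.sc_eq, mul_assoc (B.c * B.c) B.s B.c, B.sc_eq, ← mul_assoc, ← mul_assoc, hc, one_mul]
  intro i j h
  fin_cases i <;> fin_cases j
  · exact absurd rfl h
  · exact (mul_one B.s).symm
  · show B.c = B.s * (B.c * B.c * B.s)
    rw [← mul_assoc, scc, mul_assoc, B.s2, mul_one]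
  · show (1 : G) = B.s * B.s
    exact B.s2.symm
  · exact absurd rfl h
  · show B.c * B.c * B.s = B.s * B.c
    exact B.sc_eq.symm
  · show B.c * B.s = B.s * (B.c * B.c)
    exact scc.symm
  · show B.c * B.c = B.s * (B.c * B.s)
    exact B.s_cs.symm
  · exact absurd rfl h

theorem triples (Q : Fin 3 → Fin 3 → Fin 3 → Prop)
    (hγ : ∀ i j k, i ≠ j → i ≠ k → j ≠ k → Q i j k → Q (γ i) (γ j) (γ k))
    (hτ : ∀ i j k, i ≠ j → i ≠ k → j ≠ k → Q i j k → Q (τ i) (τ j) (τ k))
    (h0 : Q 0 1 2) {i j k : Fin 3} (hij : i ≠ j) (hik : i ≠ k) (hjk : j ≠ k) : Q i j k := by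
  have q1 : Q 1 2 0 := hγ 0 1 2 (by decide) (by decide) (by decide) h0
  have q2 : Q 2 0 1 := hγ 1 2 0 (by decide) (by decide) (by decide) q1
  have q3 : Q 1 0 2 := hτ 0 1 2 (by decide) (by decide) (by decide) h0
  have q4 : Q 2 1 0 := hγ 1 0 2 (by decide) (by decide) (by decide) q3
  have q5 : Q 0 2 1 := hγ 2 1 0 (by decide) (by decide) (by decide) q4
  fin_cases i <;> fin_cases j <;> fin_cases k <;>
    first | exact absurd rfl hij | exact absurd rfl hik | exact absurd rfl hjk | assumption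

end Gens



section Derive

variable {G : Type*} [Group G] (B : Gens G)

namespace Gens

/-- A conjugate by a permuting element. -/
def Bel (i j : Fin 3) (g : G) : G := B.P i j * g * (B.P i j)⁻¹

theorem Bel_γ {i j : Fin 3} (h : i ≠ j) (g : G) : B.Bel (γ i) (γ j) g = B.c * B.Bel i j g * B.c⁻¹ := by
  simp [Bel, B.P_γ h, mul_assoc]

theorem Bel_τ {i j : Fin 3} (h : i ≠ j) (g : G) : B.Bel (τ i) (τ j) g = B.s * B.Bel i j g * B.s⁻¹ := by
  simp [Bel, B.P_τ h, mul_assoc]

theorem Bel01 (g : G) : B.Bel 0 1 g = g := by simp [Bel, P]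

theorem Bel_mul (i j : Fin 3) (g h : G) : B.Bel i j (g * h) = B.Bel i j g * B.Bel i j h := by
  simp only [Bel]; group

theorem Bel_one (i j : Fin 3) : B.Bel i j 1 = 1 := by simp [Bel]

theorem comm_left (u v : G) (h : Commute (B.Bel 0 1 u) (B.Bel 0 2 v)) {i j k : Fin 3} (hij : i ≠ j)
    (hik : i ≠ k) (hjk : j ≠ k) : Commute (B.Bel i j u) (B.Bel i k v) := by
  refine triples (fun i j k => Commute (B.Bel i j u) (B.Bel i k v)) ?_ ?_ h hij hik hjk
  · intro i j k hij hik _ hc
    rw [B.Bel_γ hij, B.Bel_γ hik]; exact hc.conj B.c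
  · intro i j k hij hik _ hc
    rw [B.Bel_τ hij, B.Bel_τ hik]; exact hc.conj B.s

theorem comm_right (u v : G) (h : Commute (B.Bel 0 1 u) (B.Bel 2 1 v)) {i j k : Fin 3} (hij : i ≠ j)
    (hik : i ≠ k) (hjk : j ≠ k) : Commute (B.Bel i j u) (B.Bel k j v) := by
  refine triples (fun i j k => Commute (B.Bel i j u) (B.Bel k j v)) ?_ ?_ h hij hik hjk
  · intro i j k hij _ hjk hc
    rw [B.Bel_γ hij, B.Bel_γ (Ne.symm hjk)]; exact hc.conj B.c
  · intro i j k hij _ hjk hc
    rw [B.Bel_τ hij, B.Bel_τ (Ne.symm hjk)]; exact hc.conj B.s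

theorem bracket_all (u v z : G) (h : ⁅B.Bel 0 1 u, B.Bel 1 2 v⁆ = B.Bel 0 2 z) {i j k : Fin 3} (hij : i ≠ j)
    (hik : i ≠ k) (hjk : j ≠ k) : ⁅B.Bel i j u, B.Bel j k v⁆ = B.Bel i k z := by
  refine triples (fun i j k => ⁅B.Bel i j u, B.Bel j k v⁆ = B.Bel i k z) ?_ ?_ h hij hik hjk
  · intro i j k hij hik hjk hc
    rw [B.Bel_γ hij, B.Bel_γ hik, B.Bel_γ hjk, ← hc, commutatorElement_def, commutatorElement_def]; group
  · intro i j k hij hik hjk hc
    rw [B.Bel_τ hij, B.Bel_τ hik, B.Bel_τ hjk, ← hc, commutatorElement_def, commutatorElement_def]; group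

/-- The fourteen relations, less those of `Gens`. -/
structure Rels : Prop where
  a11 : Commute B.x (B.Bel 0 2 B.x)
  a12 : Commute B.x (B.Bel 0 2 B.x')
  a22 : Commute B.x' (B.Bel 0 2 B.x')
  b11 : Commute B.x (B.Bel 2 1 B.x)
  b12 : Commute B.x (B.Bel 2 1 B.x')
  b22 : Commute B.x' (B.Bel 2 1 B.x')
  r11 : ⁅B.x, B.Bel 1 2 B.x⁆ = B.Bel 0 2 B.x
  r12 : ⁅B.x, B.Bel 1 2 B.x'⁆ = B.Bel 0 2 B.x'
  r21 : ⁅B.x', B.Bel 1 2 B.x⁆ = B.Bel 0 2 B.x'
  r22 : ⁅B.x', B.Bel 1 2 B.x'⁆ = B.Bel 0 2 (B.x * B.x')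

variable {B} (R : B.Rels)
include R

theorem Rels.a21 : Commute B.x' (B.Bel 0 2 B.x) := by
  have h := B.comm_left B.x B.x' (by rw [B.Bel01]; exact R.a12) (i := 0) (j := 2) (k := 1) (by decide)
    (by decide) (by decide)
  rw [B.Bel01] at h
  exact h.symm

theorem Rels.b21 : Commute B.x' (B.Bel 2 1 B.x) := by
  have h := B.comm_right B.x B.x' (by rw [B.Bel01]; exact R.b12) (i := 2) (j := 1) (k := 0) (by decide)
    (by decide) (by decide)
  rw [B.Bel01] at h
  exact h.symm

theorem Rels.comm01 : Commute B.x B.x' := by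
  have e := B.bracket_all B.x B.x B.x (by rw [B.Bel01]; exact R.r11) (i := 0) (j := 2) (k := 1) (by decide)
    (by decide) (by decide)
  rw [B.Bel01] at e
  rw [← e, commutatorElement_def]
  exact (((R.a21.mul_right R.b21).mul_right R.a21.inv_right).mul_right R.b21.inv_right).symm

theorem Rels.x'2 : B.x' * B.x' = 1 := by
  have e := B.bracket_all B.x B.x' B.x' (by rw [B.Bel01]; exact R.r12) (i := 0) (j := 2) (k := 1) (by decide)
    (by decide) (by decide)
  rw [B.Bel01] at e
  set a := B.Bel 0 2 B.x with ha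
  set b := B.Bel 2 1 B.x'
  have haa : a * a = 1 := by rw [ha, ← B.Bel_mul, ← pow_two, B.x2, B.Bel_one]
  have hc : a * B.x' * a⁻¹ = B.x' := by rw [R.a21.symm.eq, mul_inv_cancel_right]
  calc B.x' * B.x' = a * ⁅a, b⁆ * a⁻¹ * ⁅a, b⁆ := by rw [e, hc]
    _ = (a * a) * b * (a * a)⁻¹ * b⁻¹ := by simp only [commutatorElement_def]; group
    _ = 1 := by rw [haa]; group

end Gens

end Derive

section Field4

variable {F : Type*} [Field F] [Fintype F]

/-- The data of a field of four elements. -/
structure F4 (F : Type*) [Field F] where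
  w : F
  two : (1 : F) + 1 = 0
  ww : w * w = 1 + w
  w0 : w ≠ 0
  w1 : w ≠ 1
  cases : ∀ t : F, t = 0 ∨ t = 1 ∨ t = w ∨ t = 1 + w

theorem exists_f4 (h4 : Fintype.card F = 4) : Nonempty (F4 F) := by
  classical
  haveI : Fact (Nat.Prime 2) := ⟨Nat.prime_two⟩
  haveI : CharP F 2 := charP_of_card_eq_prime_pow (f := 2) (by rw [h4]; norm_num)
  have two : (1 : F) + 1 = 0 := CharTwo.add_self_eq_zero 1
  obtain ⟨w, hw⟩ : ∃ w : F, w ∉ ({0, 1} : Finset F) := by
    by_contra hcon
    push Not at hcon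
    have h := (Finset.card_le_card (fun x _ => hcon x : (Finset.univ : Finset F) ⊆ {0, 1})).trans
      Finset.card_le_two
    rw [Finset.card_univ, h4] at h
    omega
  simp only [Finset.mem_insert, Finset.mem_singleton, not_or] at hw
  obtain ⟨w0, w1⟩ := hw
  have e0 : (1 : F) + w ≠ 0 := fun e => w1 (by linear_combination e - two)
  have e1 : (1 : F) + w ≠ 1 := fun e => w0 (by linear_combination e)
  have ew : (1 : F) + w ≠ w := fun e => one_ne_zero (α := F) (by linear_combination e)
  have huniv : ({0, 1, w, 1 + w} : Finset F) = Finset.univ := by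
    refine Finset.eq_univ_of_card _ ?_
    simp [h4, Ne.symm w0, Ne.symm w1, e0.symm, e1.symm, ew.symm]
  have cases : ∀ t : F, t = 0 ∨ t = 1 ∨ t = w ∨ t = 1 + w := fun t => by
    have := huniv.symm.subset (Finset.mem_univ t)
    simpa using this
  refine ⟨⟨w, two, ?_, w0, w1, cases⟩⟩
  rcases cases (w * w) with h | h | h | h
  · exact absurd (mul_self_eq_zero.1 h) w0
  · exact absurd (by
      have : (w + 1) * (w + 1) = 0 := by linear_combination h + (w + 1) * two
      linear_combination (mul_self_eq_zero.1 this) - two) w1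
  · exact absurd (mul_left_cancel₀ w0 (h.trans (mul_one w).symm)) w1
  · exact h

end Field4

section Steinberg

variable {G : Type*} [Group G] {B : Gens G} {F : Type*} [Field F] (D : F4 F)

include D in
theorem F4.add_self (t : F) : t + t = 0 := by linear_combination t * D.two

include D in
theorem F4.induct (p : F → Prop) (h0 : p 0) (h1 : p 1) (hw : p D.w) (hadd : ∀ a b, p a → p b → p (a + b)) :
    ∀ t, p t := by
  intro t
  rcases D.cases t with rfl | rfl | rfl | rfl
  · exact h0
  · exact h1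
  · exact hw
  · exact hadd _ _ h1 hw

open Classical in
/-- The root subgroup. -/
noncomputable def φfun (B : Gens G) (D : F4 F) (t : F) : G :=
  if t = 0 then 1 else if t = 1 then B.x else if t = D.w then B.x' else B.x * B.x'

theorem φfun_zero : φfun B D 0 = 1 := by simp [φfun]
theorem φfun_one : φfun B D 1 = B.x := by simp [φfun]
theorem φfun_w : φfun B D D.w = B.x' := by simp [φfun, D.w0, D.w1]

theorem φfun_1w : φfun B D (1 + D.w) = B.x * B.x' := by
  have e0 : (1 : F) + D.w ≠ 0 := fun e => D.w1 (by linear_combination e - D.two)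
  have e1 : (1 : F) + D.w ≠ 1 := fun e => D.w0 (by linear_combination e)
  have ew : (1 : F) + D.w ≠ D.w := fun e => one_ne_zero (α := F) (by linear_combination e)
  simp [φfun, e0, e1, ew, D.w0]

theorem φfun_add (R : B.Rels) (s t : F) : φfun B D (s + t) = φfun B D s * φfun B D t := by
  have a1 : ∀ u : G, B.x * (B.x * u) = u := fun u => by rw [← mul_assoc, ← pow_two, B.x2, one_mul]
  have a2 : ∀ u : G, B.x' * (B.x' * u) = u := fun u => by rw [← mul_assoc, R.x'2, one_mul]
  have hc : B.x' * B.x = B.x * B.x' := R.comm01.eq.symm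
  have a3 : ∀ u : G, B.x' * (B.x * u) = B.x * (B.x' * u) := fun u => by rw [← mul_assoc, hc, mul_assoc]
  have xx : B.x * B.x = 1 := by rw [← pow_two, B.x2]
  have s1 := D.add_self 1
  have s2 := D.add_self D.w
  rcases D.cases s with rfl | rfl | rfl | rfl <;> rcases D.cases t with rfl | rfl | rfl | rfl
  · simp [φfun_zero]
  · simp [φfun_zero]
  · simp [φfun_zero]
  · simp [φfun_zero]
  · simp [φfun_zero]
  · rw [s1, φfun_zero, φfun_one, xx]
  · rw [φfun_1w, φfun_one, φfun_w]
  · rw [← add_assoc, s1, zero_add, φfun_1w, φfun_one, φfun_w, a1]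
  · simp [φfun_zero]
  · rw [add_comm, φfun_1w, φfun_one, φfun_w, hc]
  · rw [s2, φfun_zero, φfun_w, R.x'2]
  · rw [add_left_comm, s2, add_zero, φfun_1w, φfun_one, φfun_w, a3, R.x'2, mul_one]
  · simp [φfun_zero]
  · rw [add_right_comm, s1, zero_add, φfun_1w, φfun_one, φfun_w, mul_assoc, hc, a1]
  · rw [add_assoc, s2, add_zero, φfun_1w, φfun_one, φfun_w, mul_assoc, R.x'2, mul_one]
  · rw [add_add_add_comm, s1, s2, add_zero, φfun_zero, φfun_1w, mul_assoc, a3, a1, R.x'2]

/-- The root subgroups. -/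
noncomputable def root (B : Gens G) (D : F4 F) (i j : Fin 3) (t : F) : G := B.Bel i j (φfun B D t)

theorem raw (R : B.Rels) : CfsgLib.StSL.Raw (root B D) := by
  have hadd : ∀ i j a b, root B D i j (a + b) = root B D i j a * root B D i j b := fun i j a b => by
    rw [root, φfun_add D R, B.Bel_mul]; rfl
  have hz : ∀ i j, root B D i j 0 = 1 := fun i j => by rw [root, φfun_zero, B.Bel_one]
  have h1 : ∀ i j, root B D i j 1 = B.Bel i j B.x := fun i j => by rw [root, φfun_one]
  have hw : ∀ i j, root B D i j D.w = B.Bel i j B.x' := fun i j => by rw [root, φfun_w]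
  have self : ∀ i j t u, Commute (root B D i j t) (root B D i j u) := fun i j t u => by
    show _ * _ = _ * _
    rw [← hadd, ← hadd, add_comm]
  have left : ∀ {i j k : Fin 3}, i ≠ j → i ≠ k → j ≠ k → ∀ t u,
      Commute (root B D i j t) (root B D i k u) := by
    intro i j k hij hik hjk t
    have c := fun u v h => B.comm_left u v h hij hik hjk
    refine D.induct (fun t => ∀ u, Commute (root B D i j t) (root B D i k u)) ?_ ?_ ?_ ?_ t
    · intro u; rw [hz]; exact Commute.one_left _
    · refine D.induct (fun u => Commute (root B D i j 1) (root B D i k u)) ?_ ?_ ?_ ?_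
      · rw [hz]; exact Commute.one_right _
      · rw [h1, h1]; exact c _ _ (by rw [B.Bel01]; exact R.a11)
      · rw [h1, hw]; exact c _ _ (by rw [B.Bel01]; exact R.a12)
      · intro a b ha hb; rw [hadd]; exact ha.mul_right hb
    · refine D.induct (fun u => Commute (root B D i j D.w) (root B D i k u)) ?_ ?_ ?_ ?_
      · rw [hz]; exact Commute.one_right _
      · rw [hw, h1]; exact c _ _ (by rw [B.Bel01]; exact R.a21)
      · rw [hw, hw]; exact c _ _ (by rw [B.Bel01]; exact R.a22)
      · intro a b ha hb; rw [hadd]; exact ha.mul_right hb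
    · intro a b ha hb u; rw [hadd]; exact (ha u).mul_left (hb u)
  have right : ∀ {i j k : Fin 3}, i ≠ j → i ≠ k → j ≠ k → ∀ t u,
      Commute (root B D i j t) (root B D k j u) := by
    intro i j k hij hik hjk t
    have c := fun u v h => B.comm_right u v h hij hik hjk
    refine D.induct (fun t => ∀ u, Commute (root B D i j t) (root B D k j u)) ?_ ?_ ?_ ?_ t
    · intro u; rw [hz]; exact Commute.one_left _
    · refine D.induct (fun u => Commute (root B D i j 1) (root B D k j u)) ?_ ?_ ?_ ?_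
      · rw [hz]; exact Commute.one_right _
      · rw [h1, h1]; exact c _ _ (by rw [B.Bel01]; exact R.b11)
      · rw [h1, hw]; exact c _ _ (by rw [B.Bel01]; exact R.b12)
      · intro a b ha hb; rw [hadd]; exact ha.mul_right hb
    · refine D.induct (fun u => Commute (root B D i j D.w) (root B D k j u)) ?_ ?_ ?_ ?_
      · rw [hz]; exact Commute.one_right _
      · rw [hw, h1]; exact c _ _ (by rw [B.Bel01]; exact R.b21)
      · rw [hw, hw]; exact c _ _ (by rw [B.Bel01]; exact R.b22)
      · intro a b ha hb; rw [hadd]; exact ha.mul_right hb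
    · intro a b ha hb u; rw [hadd]; exact (ha u).mul_left (hb u)
  refine ⟨fun _ a b => hadd _ _ a b, ?_, ?_⟩
  · intro i j k l hij hkl hjk hil t u
    by_cases hik : i = k
    · subst hik
      by_cases hjl : j = l
      · subst hjl; exact self _ _ _ _
      · exact left hij hkl hjl t u
    · by_cases hjl : j = l
      · subst hjl; exact right hij hik hjk t u
      · exfalso
        revert hij hkl hjk hil hik hjl
        revert i j k l
        decide
  · intro i j k hij hjk hik t
    have b := fun u v z h => B.bracket_all u v z h hij hik hjk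
    have splitR : ∀ t u v, ⁅root B D i j t, root B D j k u⁆ = root B D i k (t * u) →
        ⁅root B D i j t, root B D j k v⁆ = root B D i k (t * v) →
        ⁅root B D i j t, root B D j k (u + v)⁆ = root B D i k (t * (u + v)) := by
      intro t u v hu hv
      have hc : Commute (root B D j k u) (root B D i k (t * v)) := right hjk (Ne.symm hij) (Ne.symm hik) _ _
      rw [hadd, mul_add, hadd, ← hu, ← hv]
      rw [← hv] at hc
      calc ⁅root B D i j t, root B D j k u * root B D j k v⁆ = ⁅root B D i j t, root B D j k u⁆ *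
            (root B D j k u * ⁅root B D i j t, root B D j k v⁆ * (root B D j k u)⁻¹) := by
            simp only [commutatorElement_def]; group
        _ = _ := by rw [hc.eq, mul_inv_cancel_right]
    have splitL : ∀ s t u, ⁅root B D i j s, root B D j k u⁆ = root B D i k (s * u) →
        ⁅root B D i j t, root B D j k u⁆ = root B D i k (t * u) →
        ⁅root B D i j (s + t), root B D j k u⁆ = root B D i k ((s + t) * u) := by
      intro s t u hs ht
      have hc : Commute (root B D i j s) (root B D i k (t * u)) := left hij hik hjk _ _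
      rw [hadd, add_mul, add_comm, hadd, ← hs, ← ht]
      rw [← ht] at hc
      calc ⁅root B D i j s * root B D i j t, root B D j k u⁆ = (root B D i j s *
            ⁅root B D i j t, root B D j k u⁆ * (root B D i j s)⁻¹) * ⁅root B D i j s, root B D j k u⁆ := by
            simp only [commutatorElement_def]; group
        _ = _ := by rw [hc.eq, mul_inv_cancel_right]
    refine D.induct (fun t => ∀ u, ⁅root B D i j t, root B D j k u⁆ = root B D i k (t * u)) ?_ ?_ ?_ ?_ t
    · intro u; rw [hz, zero_mul, hz, commutatorElement_one_left]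
    · refine D.induct (fun u => ⁅root B D i j 1, root B D j k u⁆ = root B D i k (1 * u)) ?_ ?_ ?_ (splitR 1)
      · rw [hz, mul_zero, hz, commutatorElement_one_right]
      · rw [mul_one, h1, h1, h1]; exact b _ _ _ (by rw [B.Bel01]; exact R.r11)
      · rw [one_mul, h1, hw, hw]; exact b _ _ _ (by rw [B.Bel01]; exact R.r12)
    · refine D.induct (fun u => ⁅root B D i j D.w, root B D j k u⁆ = root B D i k (D.w * u)) ?_ ?_ ?_ (splitR D.w)
      · rw [hz, mul_zero, hz, commutatorElement_one_right]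
      · rw [mul_one, hw, h1, hw]; exact b _ _ _ (by rw [B.Bel01]; exact R.r21)
      · rw [D.ww, hw, hw, root, φfun_1w]; exact b _ _ _ (by rw [B.Bel01]; exact R.r22)
    · intro a c ha hc u; exact splitL a c u (ha u) (hc u)

theorem mem_root (R : B.Rels) : B.c ∈ Subgroup.closure {g | ∃ i j t, i ≠ j ∧ root B D i j t = g} ∧
    B.s ∈ Subgroup.closure {g | ∃ i j t, i ≠ j ∧ root B D i j t = g} ∧
    B.x ∈ Subgroup.closure {g | ∃ i j t, i ≠ j ∧ root B D i j t = g} ∧
    B.x' ∈ Subgroup.closure {g | ∃ i j t, i ≠ j ∧ root B D i j t = g} := by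
  have _ := R
  set X := Subgroup.closure {g | ∃ i j t, i ≠ j ∧ root B D i j t = g}
  have m : ∀ {i j}, i ≠ j → ∀ t, root B D i j t ∈ X := fun h t => Subgroup.subset_closure ⟨_, _, t, h, rfl⟩
  have hb : ∀ {i j}, i ≠ j → B.Bel i j B.x ∈ X := fun h => by
    have := m h 1
    rwa [root, φfun_one] at this
  have hx : B.x ∈ X := by have := hb (show (0 : Fin 3) ≠ 1 by decide); rwa [B.Bel01] at this
  have hx' : B.x' ∈ X := by
    have := m (show (0 : Fin 3) ≠ 1 by decide) D.w
    rwa [root, φfun_w, B.Bel01] at this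
  have h10 : B.s * B.x * B.s⁻¹ = B.Bel 1 0 B.x := rfl
  have hs : B.s ∈ X := by
    rw [B.seq, h10]
    exact mul_mem (mul_mem hx (hb (by decide))) hx
  have hcsc : B.c * B.s * B.c⁻¹ ∈ X := by
    have e : B.c * B.s * B.c⁻¹ = (B.c * B.x * B.c⁻¹) * (B.c * (B.s * B.x * B.s⁻¹) * B.c⁻¹) * (B.c * B.x * B.c⁻¹) := by
      conv_lhs => rw [B.seq]
      group
    rw [e, h10, ← B.Bel_γ (show (1 : Fin 3) ≠ 0 by decide)]
    have h12 : B.c * B.x * B.c⁻¹ ∈ X := hb (show (1 : Fin 3) ≠ 2 by decide)
    exact mul_mem (mul_mem h12 (hb (show Gens.γ 1 ≠ Gens.γ 0 by decide))) h12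
  refine ⟨?_, hs, hx, hx'⟩
  have e : B.c * B.s * B.c⁻¹ = B.s * B.c := by
    rw [B.sc_eq, mul_inv_eq_iff_eq_mul, mul_assoc (B.c * B.c), B.sc_eq, ← mul_assoc, ← mul_assoc]
    rw [show B.c * B.c * B.c = 1 by rw [← pow_three', B.c3], one_mul]
  have : B.c = B.s * (B.c * B.s * B.c⁻¹) := by rw [e, ← mul_assoc, B.s2, one_mul]
  rw [this]
  exact mul_mem hs hcsc

end Steinberg

end CfsgLib.SLShort.Four
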