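import Cfsg.Agent.Lib.SLShort.Present

/-!
# Torus and root relations in a group satisfying the relations
-/

namespace CfsgLib.SLShort

open Equiv Equiv.Perm Polynomial
open scoped commutatorElement

namespace TPart

variable {N : ℕ} (P : TPart N) {F : Type} [Field F] [Fintype F] (D : FData F)

/-- In a group satisfying the relations the Steinberg skeleton holds. -/
theorem exists_base {G : Type} [Group G] (f : P.L → G) (hrel : ∀ r ∈ P.relList D, FreeGroup.lift f r = 1) :
    ∃ B : Base N G, (∀ i, B.ρ (P.t i) = f (Sum.inl i)) ∧ B.x = f (Sum.inr 0) ∧ B.y = f (Sum.inr 1) ∧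
      B.h = f (Sum.inr 2) ∧ B.Torus ∧ B.Roots D ∧
      (N = 0 → CfsgLib.SL2Pres.cj (B.hf 0 2) B.x 1 = CfsgLib.SL2Pres.ev (B.hf 0 2) B.x 3 (g₀ D)) := by
  obtain ⟨ρ, hρ⟩ := P.exists_rho f fun r hr => hrel _ (P.mem_relT D hr)
  have htw : ∀ σ, FreeGroup.lift f (P.tw σ) = ρ σ := P.tw_eval f ρ hρ
  have stab : ∀ u : FreeGroup P.L, (∀ s ∈ P.S, cm (P.tw s) u ∈ P.relList D) →
      ∀ σ : AG N, (σ : Perm (Fin (N + 3))) 0 = 0 → (σ : Perm (Fin (N + 3))) 1 = 1 →
        Commute (ρ σ) (FreeGroup.lift f u) := by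
    intro u hu σ h0 h1
    have : σ ∈ (Subgroup.centralizer {FreeGroup.lift f u}).comap ρ := by
      refine (Subgroup.closure_le _).2 ?_ (P.hS σ h0 h1)
      intro s hs
      have h := hrel _ (hu s hs)
      rw [map_cm, cm_eq_one, htw] at h
      exact Subgroup.mem_centralizer_singleton_iff.2 h.eq
    exact Subgroup.mem_centralizer_singleton_iff.1 this
  have hcase : ∀ r ∈ P.caseRels D, FreeGroup.lift f r = 1 := fun r hr => hrel r (P.mem_case D hr)
  have hY : N ≠ 0 → f (Sum.inr 1) = 1 := fun hN => by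
    have := hcase P.Y (by simp [caseRels, hN])
    simpa [Y] using this
  obtain ⟨B, rfl, hBx, hBy, hBh⟩ : ∃ B : Base N G,
      B.ρ = ρ ∧ B.x = FreeGroup.lift f P.X ∧ B.y = FreeGroup.lift f P.Y ∧ B.h = FreeGroup.lift f P.H :=
    ⟨{ ρ := ρ
       x := FreeGroup.lift f P.X
       y := FreeGroup.lift f P.Y
       h := FreeGroup.lift f P.H
       stx := stab P.X fun s hs => P.mem_stabX D hs
       sty := fun σ h0 h1 => by
        by_cases hN : N = 0
        · rw [stab_trivial hN h0 h1, map_one]; exact Commute.one_left _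
        · rw [show FreeGroup.lift f P.Y = f (Sum.inr 1) by simp [Y], hY hN]; exact Commute.one_right _
       sth := stab P.H fun s hs => P.mem_stabH D hs }, rfl, rfl, rfl, rfl⟩
  have hx : ∀ i j, FreeGroup.lift f (P.xw i j) = B.xf i j := fun i j => by
    rw [xw, P.orbW_eval f B.ρ hρ, ← hBx, ← hBy]; rfl
  have hh : ∀ i j, FreeGroup.lift f (P.hw i j) = B.hf i j := fun i j => by
    rw [hw, P.orbW_eval f B.ρ hρ, map_inv, ← hBh]; rfl
  have hbase : ∀ r ∈ P.baseRels D, FreeGroup.lift f r = 1 := fun r hr => hrel r (P.mem_base D hr)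
  simp only [baseRels, List.mem_cons, List.not_mem_nil, or_false, forall_eq_or_imp, forall_eq] at hbase
  obtain ⟨b1, b2, b3, b4, b5, b6, b7, b8, -, -⟩ := hbase
  rw [map_cm, cm_eq_one] at b2 b3 b4 b5
  rw [hh, hh] at b2
  rw [map_mul, hh, hh, ← hBx] at b3
  rw [hx, hx] at b4 b5
  rw [cocR, map_mul, map_inv, map_mul, hh, hh, hh, mul_inv_eq_one] at b1
  rw [brR, map_mul, map_inv, map_cm, hx, hx, hx, mul_inv_eq_one] at b6
  rw [map_pow, ← hBx] at b7
  rw [CfsgLib.SL2Pres.map_ev, hh, ← hBx] at b8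
  have cocOdd : B.hf 1 2 = B.hf 1 0 * B.hf 0 2 → N = 0 →
      ∀ i j k : Fin (N + 3), i ≠ j → i ≠ k → j ≠ k → B.hf i k = B.hf i j * B.hf j k := by
    intro h hN
    refine all_triples (π₀ := swap (0 : Fin (N + 3)) 1) (sign_swap n01) n01 n02 n12
      (fun i j k => B.hf i k = B.hf i j * B.hf j k) ?_ b1 ?_
    · intro σ i j k hij hik hjk e
      rw [B.hf_equiv σ hij, B.hf_equiv σ hik, B.hf_equiv σ hjk, e]
      group
    · rw [swap_apply_left, swap_apply_right, swap_apply_of_ne_of_ne n02.symm n12.symm]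
      exact h
  have hi3 : ∀ a : Fin (N + 3), a.val = 3 → Commute (B.hf 2 a) B.x ∧ Commute (B.hf 2 a) B.y := by
    intro a ha
    have hN : N ≠ 0 := fun e => by have := a.isLt; omega
    have h1 := hcase (cm (P.hw 2 (i3 N)) P.X) (by simp [caseRels, hN])
    rw [map_cm, cm_eq_one, hh, ← hBx] at h1
    have e : B.y = 1 := hBy.trans (hcase P.Y (by simp [caseRels, hN]))
    rw [eq_i3 ha]
    exact ⟨h1, e ▸ Commute.one_right _⟩
  have h10 : N = 0 → B.hf 1 0 = B.h⁻¹ := by
    intro hN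
    have := orb_neg (u := B.h) (fun σ a b => (B.sth σ a b).inv_right) (1 : AG N) (by
      rintro ⟨τ, h0, h1⟩
      simp only [Subgroup.coe_one, Perm.one_apply] at h0 h1
      exact no_swap01 hN h0 h1)
    simpa [Base.hf] using this
  have T : B.Torus := by
    refine ⟨?_, b2, b3, ?_, fun a ha => (hi3 a ha).1, fun a ha => (hi3 a ha).2⟩
    · by_cases hN : N = 0
      · refine cocOdd ?_ hN
        rw [h10 hN, b1, B.hf01, inv_mul_cancel_left]
      obtain ⟨n30, n31, n32⟩ := i3_ne (Nat.pos_of_ne_zero hN)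
      refine all_triples (π₀ := swap (2 : Fin (N + 3)) (i3 N)) (sign_swap n32.symm) n01 n02 n12
        (fun i j k => B.hf i k = B.hf i j * B.hf j k) ?_ b1 ?_
      · intro σ i j k hij hik hjk e
        rw [B.hf_equiv σ hij, B.hf_equiv σ hik, B.hf_equiv σ hjk, e]
        group
      · rw [swap_apply_of_ne_of_ne n02 n30.symm, swap_apply_of_ne_of_ne n12 n31.symm, swap_apply_left]
        by_cases hN1 : N = 1
        · have := hcase (P.cocR 0 1 (i3 N)) (by simp [caseRels, hN, hN1])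
          rwa [cocR, map_mul, map_inv, map_mul, hh, hh, hh, mul_inv_eq_one] at this
        · obtain ⟨σ, s0, s1, s2⟩ := exists_shift (show 2 ≤ N by omega)
          have := congrArg (fun g => B.ρ σ * g * (B.ρ σ)⁻¹) b1
          simp only [← conj_mul] at this
          rw [← B.hf_equiv σ n02, ← B.hf_equiv σ n01, ← B.hf_equiv σ n12, s0, s1, s2] at this
          exact this
    · by_cases hN : N = 0
      · have := hcase (cm (P.hw 0 2 * P.hw 1 2) P.Y) (by simp [caseRels, hN])
        rwa [map_cm, cm_eq_one, map_mul, hh, hh, ← hBy] at this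
      · have e : B.y = 1 := hBy.trans (hcase P.Y (by simp [caseRels, hN]))
        rw [e]; exact Commute.one_right _
  have br2 : ∀ i j k : Fin (N + 3), i ≠ j → i ≠ k → j ≠ k → ⁅B.xf i j, B.xf j k⁆ = B.xf i k := by
    have heq : ∀ (σ : AG N) (i j k : Fin (N + 3)), i ≠ j → i ≠ k → j ≠ k → ⁅B.xf i j, B.xf j k⁆ = B.xf i k →
        ⁅B.xf ((σ : Perm (Fin (N + 3))) i) ((σ : Perm (Fin (N + 3))) j),
          B.xf ((σ : Perm (Fin (N + 3))) j) ((σ : Perm (Fin (N + 3))) k)⁆ =
          B.xf ((σ : Perm (Fin (N + 3))) i) ((σ : Perm (Fin (N + 3))) k) := by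
      intro σ i j k hij hik hjk e
      rw [B.xf_equiv σ hij, B.xf_equiv σ hik, B.xf_equiv σ hjk, ← e]
      simp only [commutatorElement_def]
      group
    by_cases hN : N = 0
    · refine all_triples (π₀ := swap (0 : Fin (N + 3)) 1) (sign_swap n01) n01 n02 n12
        (fun i j k => ⁅B.xf i j, B.xf j k⁆ = B.xf i k) heq b6 ?_
      rw [swap_apply_left, swap_apply_right, swap_apply_of_ne_of_ne n02.symm n12.symm]
      have := hcase (P.brR 1 0 2) (by simp [caseRels, hN])
      rwa [brR, map_mul, map_inv, map_cm, hx, hx, hx, mul_inv_eq_one] at this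
    obtain ⟨n30, n31, n32⟩ := i3_ne (Nat.pos_of_ne_zero hN)
    refine all_triples (π₀ := swap (2 : Fin (N + 3)) (i3 N)) (sign_swap n32.symm) n01 n02 n12
      (fun i j k => ⁅B.xf i j, B.xf j k⁆ = B.xf i k) heq b6 ?_
    rw [swap_apply_of_ne_of_ne n02 n30.symm, swap_apply_of_ne_of_ne n12 n31.symm, swap_apply_left]
    by_cases hN1 : N = 1
    · have := hcase (P.brR 0 1 (i3 N)) (by simp [caseRels, hN, hN1])
      rwa [brR, map_mul, map_inv, map_cm, hx, hx, hx, mul_inv_eq_one] at this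
    · obtain ⟨σ, s0, s1, s2⟩ := exists_shift (show 2 ≤ N by omega)
      have := heq σ 0 1 2 n01 n02 n12 b6
      rwa [s0, s1, s2] at this
  have c3 : ∀ i j k l : Fin (N + 3), i ≠ j → i ≠ k → i ≠ l → j ≠ k → j ≠ l → k ≠ l →
      Commute (B.xf i j) (B.xf k l) := by
    intro i j k l hij hik hil hjk hjl hkl
    by_cases hN : N = 0
    · exfalso
      rw [ne_eq, Fin.ext_iff] at hij hik hil hjk hjl hkl
      have := i.isLt; have := j.isLt; have := k.isLt; have := l.isLt
      omega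
    obtain ⟨n30, n31, n32⟩ := i3_ne (Nat.pos_of_ne_zero hN)
    have heq : ∀ (σ : AG N) (i j k l : Fin (N + 3)), i ≠ j → i ≠ k → i ≠ l → j ≠ k → j ≠ l → k ≠ l →
        Commute (B.xf i j) (B.xf k l) →
        Commute (B.xf ((σ : Perm (Fin (N + 3))) i) ((σ : Perm (Fin (N + 3))) j))
          (B.xf ((σ : Perm (Fin (N + 3))) k) ((σ : Perm (Fin (N + 3))) l)) := by
      intro σ i j k l hij _ _ _ _ hkl hc
      rw [B.xf_equiv σ hij, B.xf_equiv σ hkl]
      exact hc.conj (B.ρ σ)
    have b := hcase (cm (P.xw 0 1) (P.xw 2 (i3 N))) (by simp [caseRels, hN])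
    rw [map_cm, cm_eq_one, hx, hx] at b
    by_cases hN2 : N ≤ 2
    · refine all_quads (π₀ := swap (2 : Fin (N + 3)) (i3 N)) (sign_swap n32.symm) n01 n02 n30.symm n12
        n31.symm n32.symm (fun i j k l => Commute (B.xf i j) (B.xf k l)) heq b ?_
        i j k l hij hik hil hjk hjl hkl
      rw [swap_apply_of_ne_of_ne n02 n30.symm, swap_apply_of_ne_of_ne n12 n31.symm, swap_apply_left,
        swap_apply_right]
      have := hcase (cm (P.xw 0 1) (P.xw (i3 N) 2)) (by simp [caseRels, hN, hN2])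
      rwa [map_cm, cm_eq_one, hx, hx] at this
    · let c4 : Fin (N + 3) := ⟨4, by omega⟩
      let c5 : Fin (N + 3) := ⟨5, by omega⟩
      have h45 : c4 ≠ c5 := fun e => by have := congrArg Fin.val e; simp [c4, c5] at this
      refine all_quads (π₀ := swap c4 c5) (sign_swap h45) n01 n02 n30.symm n12
        n31.symm n32.symm (fun i j k l => Commute (B.xf i j) (B.xf k l)) heq b ?_
        i j k l hij hik hil hjk hjl hkl
      have fix : ∀ a : Fin (N + 3), a.val < 4 → swap c4 c5 a = a := fun a ha =>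
        swap_apply_of_ne_of_ne (fun e => by have := congrArg Fin.val e; simp [c4] at this; omega)
          (fun e => by have := congrArg Fin.val e; simp [c5] at this; omega)
      rw [fix 0 (by simp), fix 1 (by simp), fix 2 (by simp [Nat.mod_eq_of_lt (show 2 < N + 3 by omega)]),
        fix (i3 N) (by rw [i3_val (Nat.pos_of_ne_zero hN)]; omega)]
      exact b
  have R : B.Roots D := ⟨b4, b5, c3, br2, b7, b8⟩
  refine ⟨B, hρ, by rw [hBx]; simp [TPart.X], by rw [hBy]; simp [TPart.Y], by rw [hBh]; simp [TPart.H], T, R, fun hN => ?_⟩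
  have := hcase (CfsgLib.SL2Pres.cj (P.hw 0 2) P.X 1 * (CfsgLib.SL2Pres.ev (P.hw 0 2) P.X 3 (g₀ D))⁻¹)
    (by simp [caseRels, hN])
  rwa [map_mul, map_inv, mul_inv_eq_one, CfsgLib.SL2Pres.map_cj, CfsgLib.SL2Pres.map_ev, hh, ← hBx] at this

end TPart

end CfsgLib.SLShort
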