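import Cfsg.Agent.Lib.SLShort.Present

/-!
# The relations hold in the special linear group
-/

namespace CfsgLib.SLShort

open Equiv Equiv.Perm Polynomial
open scoped commutatorElement

namespace TPart

variable {N : ℕ} (P : TPart N) {F : Type} [Field F] [Fintype F] (D : FData F)

theorem std_tw (σ : AG N) : P.std D (P.tw σ) = permSL σ :=
  P.tw_eval _ permSL (fun _ => rfl) σ

/-- The base in `SL`. -/
noncomputable def base0 : Base N (Matrix.SpecialLinearGroup (Fin (N + 3)) F) where
  ρ := permSL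
  x := tv n01 1
  y := if N = 0 then tv n01.symm 1 else 1
  h := diagW D.ω D.hω (Pi.single 0 1 - Pi.single 1 1)
  stx σ h0 h1 := by
    have e := perm_conj_tv (F := F) σ (show (0 : Fin (N + 3)) ≠ 1 from n01) 1
    simp only [h0, h1] at e
    exact mul_inv_eq_iff_eq_mul.1 e
  sty σ h0 h1 := by
    split_ifs
    · have e := perm_conj_tv (F := F) σ (show (1 : Fin (N + 3)) ≠ 0 from n01.symm) 1
      simp only [h0, h1] at e
      exact mul_inv_eq_iff_eq_mul.1 e
    · exact Commute.one_right _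
  sth σ h0 h1 := by
    have e := perm_conj_diagW (F := F) σ D.hω
      (v := (Pi.single (0 : Fin (N + 3)) (1 : ℤ) : Fin (N + 3) → ℤ) - Pi.single 1 1)
      (by simp [Finset.sum_sub_distrib])
    have e2 : ((Pi.single (0 : Fin (N + 3)) (1 : ℤ) : Fin (N + 3) → ℤ) - Pi.single 1 1) ∘
        ((σ : Perm (Fin (N + 3)))⁻¹ : Perm (Fin (N + 3))) =
        (Pi.single (0 : Fin (N + 3)) (1 : ℤ) : Fin (N + 3) → ℤ) - Pi.single 1 1 := by
      funext a
      simp only [Function.comp_apply, Pi.sub_apply, Pi.single_apply, Perm.inv_eq_iff_eq, h0, h1]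
    rw [e2] at e
    exact mul_inv_eq_iff_eq_mul.1 e

theorem base0_xf {i j : Fin (N + 3)} (h : i ≠ j) : (base0 (N := N) D).xf i j = tv h (1 : F) := by
  rcases pair_cases h with ⟨σ, rfl, rfl⟩ | ⟨σ, rfl, rfl, hn⟩
  · rw [show (base0 (N := N) D).xf _ _ = _ from orb_pos (base0 D).stx σ]
    exact perm_conj_tv σ n01 1
  · rw [show (base0 (N := N) D).xf _ _ = _ from orb_neg (base0 D).sty σ hn]
    have hN : N = 0 := by
      by_contra hN
      exact hn (orbit_all (Nat.pos_of_ne_zero hN) h)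
    simp only [base0, hN, if_true]
    exact perm_conj_tv σ n01.symm 1

theorem base0_hf {i j : Fin (N + 3)} (h : i ≠ j) :
    (base0 (N := N) D).hf i j = diagW D.ω D.hω (Pi.single i 1 - Pi.single j 1) := by
  have key : ∀ (σ : AG N) (a b : Fin (N + 3)),
      permSL σ * diagW D.ω D.hω ((Pi.single a (1 : ℤ) : Fin (N + 3) → ℤ) - Pi.single b 1) * (permSL σ)⁻¹ =
      diagW (F := F) D.ω D.hω ((Pi.single ((σ : Perm (Fin (N + 3))) a) (1 : ℤ) : Fin (N + 3) → ℤ) -
        Pi.single ((σ : Perm (Fin (N + 3))) b) 1) := by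
    intro σ a b
    rw [perm_conj_diagW σ D.hω (by simp [Finset.sum_sub_distrib])]
    congr 1
    funext c
    simp only [Function.comp_apply, Pi.sub_apply, Pi.single_apply, Perm.inv_eq_iff_eq]
  rcases pair_cases h with ⟨σ, rfl, rfl⟩ | ⟨σ, rfl, rfl, hn⟩
  · rw [show (base0 (N := N) D).hf _ _ = _ from orb_pos (base0 D).sth σ]
    exact key σ 0 1
  · rw [show (base0 (N := N) D).hf _ _ = _ from
      orb_neg (fun s a b => ((base0 D).sth s a b).inv_right) σ hn]
    have e : ((base0 (N := N) D).h)⁻¹ =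
        diagW D.ω D.hω ((Pi.single (1 : Fin (N + 3)) (1 : ℤ) : Fin (N + 3) → ℤ) - Pi.single 0 1) := by
      refine inv_eq_of_mul_eq_one_right ?_
      show diagW (F := F) D.ω D.hω _ * diagW (F := F) D.ω D.hω _ = 1
      rw [← diagW_add D.hω (by simp [Finset.sum_sub_distrib]) (by simp [Finset.sum_sub_distrib]),
        sub_add_sub_cancel, sub_self, diagW_zero]
    rw [e]
    exact key σ 1 0

theorem std_xw (i j : Fin (N + 3)) (h : i ≠ j) : P.std D (P.xw i j) = tv h 1 := by
  rw [← base0_xf D h, std, xw, P.orbW_eval _ permSL (fun _ => rfl)]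
  show orb permSL _ _ i j = orb permSL _ _ i j
  congr 1 <;> simp [X, Y, f₀, base0]

theorem std_hw (i j : Fin (N + 3)) (h : i ≠ j) :
    P.std D (P.hw i j) = diagW D.ω D.hω (Pi.single i 1 - Pi.single j 1) := by
  rw [← base0_hf D h, std, hw, P.orbW_eval _ permSL (fun _ => rfl)]
  show orb permSL _ _ i j = orb permSL _ _ i j
  congr 1 <;> simp [H, f₀, base0]

theorem std_surjective : Function.Surjective (P.std D) := by
  rw [← MonoidHom.range_eq_top, eq_top_iff, ← CfsgLib.StSL.closure_transvection_eq_top (K := F) (n := N + 3)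
    (by omega), Subgroup.closure_le]
  rintro _ ⟨i, j, h, t, rfl⟩
  by_cases ht : t = 0
  · subst ht; rw [Matrix.SpecialLinearGroup.transvection_coeff_zero]; exact one_mem _
  obtain ⟨k, hk⟩ := D.root t ht
  obtain ⟨l, hli, hlj⟩ : ∃ l : Fin (N + 3), l ≠ i ∧ l ≠ j := by
    obtain ⟨π, a, b⟩ := exists_perm2 (show (0 : Fin (N + 3)) ≠ 1 from n01) h
    exact ⟨π 2, fun e => n02 (π.injective (e.trans a.symm)).symm, fun e => n12 (π.injective (e.trans b.symm)).symm⟩
  refine ⟨P.hw i l ^ k * P.xw i j * (P.hw i l ^ k)⁻¹, ?_⟩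
  rw [map_mul, map_mul, map_inv, map_pow, P.std_xw D i j h, P.std_hw D i l hli.symm]
  have : ∀ k : ℕ, diagW D.ω D.hω ((Pi.single i (1 : ℤ) : Fin (N + 3) → ℤ) - Pi.single l 1) ^ k *
      tv h (1 : F) * (diagW D.ω D.hω ((Pi.single i (1 : ℤ) : Fin (N + 3) → ℤ) - Pi.single l 1) ^ k)⁻¹ =
      tv h (D.ω ^ k) := by
    intro k
    induction k with
    | zero => simp
    | succ k ih =>
      set g := diagW (F := F) D.ω D.hω ((Pi.single i (1 : ℤ) : Fin (N + 3) → ℤ) - Pi.single l 1)
      rw [pow_succ' g, show g * g ^ k * tv h 1 * (g * g ^ k)⁻¹ = g * (g ^ k * tv h 1 * (g ^ k)⁻¹) * g⁻¹ by group,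
        ih, diagW_conj_tv D.hω (by simp [Finset.sum_sub_distrib]) h]
      congr 1
      simp [h.symm, hli.symm, hlj.symm, pow_succ']
  rw [this, ← hk]
  rfl

theorem link_spec (u : Matrix.SpecialLinearGroup (Fin (N + 3)) F) :
    P.link D u ∈ Subgroup.normalClosure ({P.X, P.Y} : Set (FreeGroup P.L)) ∧ P.std D (P.link D u) = u := by
  set W := Subgroup.normalClosure ({P.X, P.Y} : Set (FreeGroup P.L))
  have hnorm : (W.map (P.std D)).Normal := Subgroup.Normal.map Subgroup.normalClosure_normal _ (P.std_surjective D)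
  have hall : ∀ i j : Fin (N + 3), ∀ h : i ≠ j, tv h (1 : F) ∈ W.map (P.std D) := by
    intro i j h
    have e : P.std D (P.xw i j) = tv h 1 := P.std_xw D i j h
    rw [← e]
    refine ⟨_, ?_, rfl⟩
    unfold xw orbW
    split_ifs
    · exact (Subgroup.normalClosure_normal (s := ({P.X, P.Y} : Set (FreeGroup P.L)))).conj_mem _
        (Subgroup.subset_normalClosure (Set.mem_insert _ _)) _
    · exact (Subgroup.normalClosure_normal (s := ({P.X, P.Y} : Set (FreeGroup P.L)))).conj_mem _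
        (Subgroup.subset_normalClosure (Set.mem_insert_of_mem _ rfl)) _
    · exact one_mem _
  have htop : W.map (P.std D) = ⊤ := by
    rw [eq_top_iff, ← CfsgLib.StSL.closure_transvection_eq_top (K := F) (n := N + 3) (by omega),
      Subgroup.closure_le]
    rintro _ ⟨i, j, h, t, rfl⟩
    by_cases ht : t = 0
    · subst ht; rw [Matrix.SpecialLinearGroup.transvection_coeff_zero]; exact one_mem _
    obtain ⟨k, rfl⟩ := D.zpow_eq t ht
    obtain ⟨l, hli, hlj⟩ : ∃ l : Fin (N + 3), l ≠ i ∧ l ≠ j := by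
      obtain ⟨π, a, b⟩ := exists_perm2 (show (0 : Fin (N + 3)) ≠ 1 from n01) h
      exact ⟨π 2, fun e => n02 (π.injective (e.trans a.symm)).symm, fun e => n12 (π.injective (e.trans b.symm)).symm⟩
    have hv : ∑ a, (k • ((Pi.single i (1 : ℤ) : Fin (N + 3) → ℤ) - Pi.single l 1) : Fin (N + 3) → ℤ) a = 0 := by
      simp [Finset.sum_sub_distrib, ← Finset.mul_sum]
    have e := diagW_conj_tv (F := F) D.hω hv h 1
    rw [show (k • ((Pi.single i (1 : ℤ) : Fin (N + 3) → ℤ) - Pi.single l 1) : Fin (N + 3) → ℤ) i -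
      (k • ((Pi.single i (1 : ℤ) : Fin (N + 3) → ℤ) - Pi.single l 1) : Fin (N + 3) → ℤ) j = k by
      simp [h.symm, hli.symm, hlj.symm], mul_one] at e
    show tv h (D.ω ^ k) ∈ W.map (P.std D)
    rw [← e]
    exact hnorm.conj_mem _ (hall i j h) _
  have hex : ∃ w ∈ W, P.std D w = u := by
    have : u ∈ W.map (P.std D) := htop ▸ Subgroup.mem_top u
    exact this
  unfold link
  rw [dif_pos hex]
  exact hex.choose_spec

theorem g₀_spec (h : Fintype.card F ≠ 4) : aeval (D.ω ^ 3) (g₀ D) = D.ω := by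
  rw [g₀, dif_pos h]
  exact (D.gen3 h D.ω).choose_spec

theorem std_holds (h4 : N = 0 → Fintype.card F ≠ 4) : ∀ r ∈ P.relList D, P.std D r = 1 := by
  have ex : P.std D P.X = tv n01 1 := by simp [std, X, f₀]
  have ey : P.std D P.Y = if N = 0 then tv n01.symm 1 else 1 := by simp [std, Y, f₀]
  have eh : P.std D P.H = diagW D.ω D.hω (Pi.single 0 1 - Pi.single 1 1) := by simp [std, H, f₀]
  have hsum : ∀ i j : Fin (N + 3), ∑ a, ((Pi.single i (1 : ℤ) : Fin (N + 3) → ℤ) - Pi.single j 1 : Fin (N + 3) → ℤ) a = 0 :=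
    fun i j => by simp [Finset.sum_sub_distrib]
  have hcomm : ∀ i j k l : Fin (N + 3), i ≠ j → k ≠ l → j ≠ k → i ≠ l →
      P.std D (cm (P.xw i j) (P.xw k l)) = 1 := by
    intro i j k l h1 h2 h3 h4'
    rw [map_cm, cm_eq_one, P.std_xw D i j h1, P.std_xw D k l h2]
    exact tv_commute h1 h2 h3 h4' 1 1
  have hbr : ∀ i j k : Fin (N + 3), i ≠ j → j ≠ k → i ≠ k → P.std D (P.brR i j k) = 1 := by
    intro i j k h1 h2 h3
    rw [brR, map_mul, map_inv, map_cm, P.std_xw D i j h1, P.std_xw D j k h2, P.std_xw D i k h3,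
      mul_inv_eq_one]
    show ⁅_, _⁆ = _
    rw [tv_bracket h1 h2 h3, one_mul]
  have hcoc : ∀ i j k : Fin (N + 3), i ≠ j → j ≠ k → i ≠ k → P.std D (P.cocR i j k) = 1 := by
    intro i j k h1 h2 h3
    rw [cocR, map_mul, map_inv, map_mul, P.std_hw D i j h1, P.std_hw D j k h2, P.std_hw D i k h3,
      ← diagW_add D.hω (hsum _ _) (hsum _ _), sub_add_sub_cancel, mul_inv_cancel]
  have hfix : ∀ (v : Fin (N + 3) → ℤ), ∑ a, v a = 0 → ∀ (i j : Fin (N + 3)) (h : i ≠ j), v i = v j →
      Commute (diagW D.ω D.hω v) (tv h (1 : F)) := by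
    intro v hv i j h he
    have e := diagW_conj_tv (F := F) D.hω hv h 1
    rw [he, sub_self, zpow_zero, one_mul] at e
    exact mul_inv_eq_iff_eq_mul.1 e
  have hu : P.std D (P.hw 0 2 * P.hw 1 2) =
      diagW D.ω D.hω ((Pi.single 0 1 - Pi.single 2 1) + (Pi.single 1 1 - Pi.single 2 1)) := by
    rw [map_mul, P.std_hw D _ _ n02, P.std_hw D _ _ n12, diagW_add D.hω (hsum _ _) (hsum _ _)]
  have hact : ∀ a : Multiplicative F, P.std D (P.hw 0 2) * tvHom (F := F) (N := N) n01 a * (P.std D (P.hw 0 2))⁻¹ =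
      tvHom n01 (Multiplicative.ofAdd (D.ω * Multiplicative.toAdd a)) := by
    intro a
    rw [P.std_hw D _ _ n02]
    show diagW _ _ _ * tv n01 _ * _ = tv n01 _
    rw [diagW_conj_tv D.hω (hsum _ _)]
    congr 1
    simp [n01.symm, n02, n12]
  have hev : ∀ (k : ℕ) (Q : ℤ[X]), P.std D (CfsgLib.SL2Pres.ev (P.hw 0 2) P.X k Q) =
      tv n01 (aeval (D.ω ^ k) Q) := by
    intro k Q
    rw [CfsgLib.SL2Pres.map_ev, ex, show tv (N := N) n01 (1 : F) = tvHom n01 (Multiplicative.ofAdd 1) from rfl,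
      CfsgLib.SL2Pres.ev_eq_hom (tvHom n01) D.ω _ (fun a => hact (Multiplicative.ofAdd a))]
    rfl
  intro r hr
  simp only [relList, baseRels, List.mem_append, List.mem_map, List.mem_cons, List.not_mem_nil, or_false] at hr
  rcases hr with (((⟨s, hs, rfl⟩ | ⟨s, hs, rfl⟩) | ⟨s, hs, rfl⟩) |
    rfl | rfl | rfl | rfl | rfl | rfl | rfl | rfl | rfl | rfl) | hr
  · have e : (P.std D).comp (FreeGroup.map Sum.inl) = (permSL (F := F)).comp (FreeGroup.lift P.t) := by
      ext i; simp [std, f₀]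
    have h1 := P.hT.holds s (Finset.mem_toList.1 hs)
    rw [← MonoidHom.comp_apply, e, MonoidHom.comp_apply, h1, map_one]
  · rw [map_cm, cm_eq_one, P.std_tw, ex]
    exact (base0 (N := N) D).stx s (P.hS0 s hs).1 (P.hS0 s hs).2
  · rw [map_cm, cm_eq_one, P.std_tw, eh]
    exact (base0 (N := N) D).sth s (P.hS0 s hs).1 (P.hS0 s hs).2
  · exact hcoc _ _ _ n01 n12 n02
  · rw [map_cm, cm_eq_one, P.std_hw D _ _ n01, P.std_hw D _ _ n02, Commute, SemiconjBy,
      ← diagW_add D.hω (hsum _ _) (hsum _ _), ← diagW_add D.hω (hsum _ _) (hsum _ _)]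
    exact congrArg _ (add_comm _ _)
  · rw [map_cm, cm_eq_one, hu, ex]
    exact hfix _ (by simp [Finset.sum_add_distrib, hsum]) _ _ n01 (by simp [n01, n01.symm, n02, n12])
  · exact hcomm _ _ _ _ n01 n02 n01.symm n02
  · exact hcomm _ _ _ _ n01 n12.symm n12 n01
  · exact hbr _ _ _ n01 n12 n02
  · rw [map_pow, ex, show tv (N := N) n01 (1 : F) = tvHom n01 (Multiplicative.ofAdd 1) from rfl, ← map_pow,
      ← ofAdd_nsmul, nsmul_one, D.hp0]
    exact map_one _
  · rw [hev, pow_one, D.hm]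
    exact Matrix.SpecialLinearGroup.transvection_coeff_zero _
  · rw [map_mul, map_inv, (P.link_spec D _).2, mul_inv_cancel]
  · rw [map_mul, map_inv, (P.link_spec D _).2, mul_inv_cancel]
  · unfold caseRels at hr
    by_cases h0 : N = 0
    · rw [if_pos h0] at hr
      simp only [List.mem_cons, List.not_mem_nil, or_false] at hr
      rcases hr with rfl | rfl | rfl
      · rw [map_cm, cm_eq_one, hu, ey, if_pos h0]
        exact hfix _ (by simp [Finset.sum_add_distrib, hsum]) _ _ n01.symm (by simp [n01, n01.symm, n02, n12])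
      · exact hbr _ _ _ n01.symm n02 n12
      · rw [map_mul, map_inv, hev, mul_inv_eq_one, CfsgLib.SL2Pres.map_cj, ex, g₀_spec D (h4 h0),
          CfsgLib.SL2Pres.cj, pow_one]
        have := hact (Multiplicative.ofAdd (1 : F))
        rw [show tvHom (N := N) n01 (Multiplicative.ofAdd (1 : F)) = tv n01 1 from rfl] at this
        rw [this]
        show tv n01 _ = tv n01 _
        simp
    · rw [if_neg h0] at hr
      obtain ⟨n30, n31, n32⟩ := i3_ne (Nat.pos_of_ne_zero h0)
      rcases List.mem_append.1 hr with h | h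
      · rcases List.mem_append.1 h with h | h
        · simp only [List.mem_cons, List.not_mem_nil, or_false] at h
          rcases h with rfl | rfl | rfl
          · rw [ey, if_neg h0]
          · rw [map_cm, cm_eq_one, P.std_hw D _ _ n32.symm, ex]
            exact hfix _ (hsum _ _) _ _ n01 (by simp [n02, n12, n30.symm, n31.symm])
          · exact hcomm _ _ _ _ n01 n32.symm n12 n30.symm
        · by_cases h1 : N = 1
          · rw [if_pos h1] at h
            simp only [List.mem_cons, List.not_mem_nil, or_false] at h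
            rcases h with rfl | rfl
            · exact hcoc _ _ _ n01 n31.symm n30.symm
            · exact hbr _ _ _ n01 n31.symm n30.symm
          · rw [if_neg h1] at h; exact absurd h (List.not_mem_nil)
      · by_cases h2 : N ≤ 2
        · rw [if_pos h2] at h
          rw [List.mem_singleton.1 h]
          exact hcomm _ _ _ _ n01 n32 n31.symm n02
        · rw [if_neg h2] at h; exact absurd h (List.not_mem_nil)

end TPart

end CfsgLib.SLShort
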