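import Cfsg.Agent.Lib.SLShort.GData
import Cfsg.Agent.Lib.SLShort.StdHolds

/-!
# The isomorphism with the special linear group
-/

namespace CfsgLib.SLShort

open Equiv Equiv.Perm Polynomial
open scoped commutatorElement

namespace TPart

variable {N : ℕ} (P : TPart N) {F : Type} [Field F] [Fintype F] (D : FData F)

/-- The torus maps to diagonal matrices. -/
theorem map_τ {G : Type} [Group G] {B : Base N G} (T : B.Torus)
    (Φ : G →* Matrix.SpecialLinearGroup (Fin (N + 3)) F)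
    (hΦh : ∀ i j, i ≠ j → Φ (B.hf i j) = diagW D.ω D.hω (Pi.single i 1 - Pi.single j 1))
    (v : Fin (N + 3) → ℤ) (hv : ∑ a, v a = 0) : Φ (T.τ v) = diagW D.ω D.hω v := by
  refine (Base.sum_zero_induction
    (fun v => ∑ a, v a = 0 ∧ Φ (T.τ v) = diagW D.ω D.hω v) ?_ ?_ ?_ v hv).2
  · exact ⟨by simp, by rw [T.τ_zero, map_one, diagW_zero]⟩
  · rintro v w ⟨h1, h2⟩ ⟨h3, h5⟩
    exact ⟨by simp [Finset.sum_add_distrib, h1, h3], by rw [T.τ_add, map_mul, h2, h5, diagW_add D.hω h1 h3]⟩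
  · intro a k ha
    have hz : ∀ k : ℤ, ∑ c, (k • ((Pi.single (0 : Fin (N + 3)) (1 : ℤ) : Fin (N + 3) → ℤ) - Pi.single a 1) :
        Fin (N + 3) → ℤ) c = 0 := fun k => by simp [Finset.sum_sub_distrib, ← Finset.mul_sum]
    refine ⟨hz k, ?_⟩
    rw [T.τ_smul_diff (Ne.symm ha), map_zpow, hΦh _ _ (Ne.symm ha)]
    set d : Fin (N + 3) → ℤ := (Pi.single (0 : Fin (N + 3)) (1 : ℤ) : Fin (N + 3) → ℤ) - Pi.single a 1
    have h1 : ∑ c, d c = 0 := by simpa using hz 1
    induction k using Int.induction_on with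
    | zero => simp [diagW_zero]
    | succ k ih => rw [zpow_add_one, ih, add_smul, one_smul, diagW_add D.hω (hz _) h1]
    | pred k ih =>
      rw [zpow_sub_one, ih, mul_inv_eq_iff_eq_mul, ← diagW_add D.hω (hz _) h1]
      congr 1
      rw [sub_smul, one_smul, sub_add_cancel]

theorem map_φ {G : Type} [Group G] {B : Base N G} (T : B.Torus)
    (Φ : G →* Matrix.SpecialLinearGroup (Fin (N + 3)) F)
    (hΦh : ∀ i j, i ≠ j → Φ (B.hf i j) = diagW D.ω D.hω (Pi.single i 1 - Pi.single j 1))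
    (hΦx : ∀ i j, ∀ h : i ≠ j, Φ (B.xf i j) = tv h (1 : F))
    (φ : Fin (N + 3) → Fin (N + 3) → Multiplicative F →* G)
    (hlin : ∀ i j, i ≠ j → T.pre.Lin D i j (φ i j)) {i j : Fin (N + 3)} (h : i ≠ j) (t : F) :
    Φ (φ i j (Multiplicative.ofAdd t)) = Matrix.SpecialLinearGroup.transvection h t := by
  by_cases ht : t = 0
  · subst ht; rw [ofAdd_zero, map_one, map_one, Matrix.SpecialLinearGroup.transvection_coeff_zero]
  obtain ⟨k, rfl⟩ := D.zpow_eq t ht
  rw [hlin i j h k]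
  rw [Pre.E, show T.pre.τ = T.τ from rfl, show T.pre.x = B.xf from rfl]
  rw [map_mul, map_mul, map_inv, map_τ D T Φ hΦh _ (T.pre.sum_vk i j k), hΦx i j h,
    diagW_conj_tv D.hω (T.pre.sum_vk i j k) h, T.pre.vk_val h, mul_one]
  rfl

variable {G : Type} [Group G] (f : P.L → G)

/-- The root elements generate. -/
theorem gen_top (hrel : ∀ r ∈ P.relList D, FreeGroup.lift f r = 1)
    (hgenG : ∀ g : G, g ∈ Subgroup.closure (Set.range f)) {B : Base N G}
    (hρ : ∀ i, B.ρ (P.t i) = f (Sum.inl i)) (hBx : B.x = f (Sum.inr 0)) (hBy : B.y = f (Sum.inr 1))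
    (hBh : B.h = f (Sum.inr 2)) (T : B.Torus) (φ : Fin (N + 3) → Fin (N + 3) → Multiplicative F →* G)
    (hlin : ∀ i j, i ≠ j → T.pre.Lin D i j (φ i j)) (g : G) :
    g ∈ Subgroup.closure {g | ∃ i j t, i ≠ j ∧ φ i j (Multiplicative.ofAdd t) = g} := by
  have htw : ∀ σ, FreeGroup.lift f (P.tw σ) = B.ρ σ := P.tw_eval f B.ρ hρ
  have hX' : FreeGroup.lift f P.X = B.x := by rw [hBx]; simp [TPart.X]
  have hY' : FreeGroup.lift f P.Y = B.y := by rw [hBy]; simp [TPart.Y]
  have hH' : FreeGroup.lift f P.H = B.h := by rw [hBh]; simp [TPart.H]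
  have hx : ∀ i j, FreeGroup.lift f (P.xw i j) = B.xf i j := fun i j => by
    rw [xw, P.orbW_eval f B.ρ hρ, hX', hY']; rfl
  have hh : ∀ i j, FreeGroup.lift f (P.hw i j) = B.hf i j := fun i j => by
    rw [hw, P.orbW_eval f B.ρ hρ, map_inv, hH']; rfl
  have hbase : ∀ r ∈ P.baseRels D, FreeGroup.lift f r = 1 := fun r hr => hrel r (P.mem_base D hr)
  have b9 : B.h = FreeGroup.lift f (P.link D (P.std D P.H)) := by
    have := hbase (P.H * (P.link D (P.std D P.H))⁻¹) (by simp [baseRels])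
    rwa [map_mul, map_inv, mul_inv_eq_one, hH'] at this
  have b10 : B.ρ (c012 N) = FreeGroup.lift f (P.link D (P.std D (P.tw (c012 N)))) := by
    have := hbase (P.tw (c012 N) * (P.link D (P.std D (P.tw (c012 N))))⁻¹) (by simp [baseRels])
    rwa [map_mul, map_inv, mul_inv_eq_one, htw] at this
  -- everything is generated by root elements
  set X := Subgroup.closure {g | ∃ i j t, i ≠ j ∧ φ i j (Multiplicative.ofAdd t) = g} with hX
  have hxX : ∀ i j, i ≠ j → B.xf i j ∈ X := by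
    intro i j h
    refine Subgroup.subset_closure ⟨i, j, 1, h, ?_⟩
    have := hlin i j h 0
    rwa [zpow_zero, T.pre.E_zero h] at this
  have hconjρ : ∀ σ : AG N, ∀ g ∈ X, B.ρ σ * g * (B.ρ σ)⁻¹ ∈ X := by
    intro σ g hg
    have hm := Subgroup.mem_map_of_mem (MulAut.conj (B.ρ σ)).toMonoidHom hg
    rw [hX, MonoidHom.map_closure] at hm
    refine ((Subgroup.closure_le X).2 ?_) hm
    rintro _ ⟨_, ⟨i, j, t, h, rfl⟩, rfl⟩
    show B.ρ σ * φ i j (Multiplicative.ofAdd t) * (B.ρ σ)⁻¹ ∈ X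
    by_cases ht : t = 0
    · subst ht; rw [ofAdd_zero, map_one, mul_one, mul_inv_cancel]; exact one_mem _
    obtain ⟨k, rfl⟩ := D.zpow_eq t ht
    rw [hlin i j h k, Base.E_equiv T σ h, ← hlin _ _ ((σ : Perm (Fin (N + 3))).injective.ne h) k]
    exact Subgroup.subset_closure ⟨_, _, _, (σ : Perm (Fin (N + 3))).injective.ne h, rfl⟩
  have hconjτ : ∀ v : Fin (N + 3) → ℤ, ∑ a, v a = 0 → ∀ g ∈ X, T.τ v * g * (T.τ v)⁻¹ ∈ X := by
    intro v hv g hg
    have hm := Subgroup.mem_map_of_mem (MulAut.conj (T.τ v)).toMonoidHom hg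
    rw [hX, MonoidHom.map_closure] at hm
    refine ((Subgroup.closure_le X).2 ?_) hm
    rintro _ ⟨_, ⟨i, j, t, h, rfl⟩, rfl⟩
    show T.τ v * φ i j (Multiplicative.ofAdd t) * (T.τ v)⁻¹ ∈ X
    by_cases ht : t = 0
    · subst ht; rw [ofAdd_zero, map_one, mul_one, mul_inv_cancel]; exact one_mem _
    obtain ⟨k, rfl⟩ := D.zpow_eq t ht
    rw [hlin i j h k]
    show T.pre.τ v * T.pre.E i j k * (T.pre.τ v)⁻¹ ∈ X
    rw [T.pre.τ_conj_E h v hv, ← hlin i j h]
    exact Subgroup.subset_closure ⟨_, _, _, h, rfl⟩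
  have hxmem : B.x ∈ X ∧ B.y ∈ X := by
    refine ⟨B.xf01 ▸ hxX 0 1 n01, ?_⟩
    by_cases hN : N = 0
    · have e : B.xf 1 0 = B.y := B.xf10 (by
        rintro ⟨τ, h0, h1⟩
        exact no_swap01 hN h0 h1)
      exact e ▸ hxX 1 0 n01.symm
    · have e : B.y = 1 := hY'.symm.trans (hrel P.Y (P.mem_case D (by simp [caseRels, hN])))
      rw [e]; exact one_mem _
  have hXn : X.Normal := by
    have key : ∀ g ∈ Subgroup.closure (Set.range f), (∀ u ∈ X, g * u * g⁻¹ ∈ X) ∧ (∀ u ∈ X, g⁻¹ * u * g ∈ X) := by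
      intro g hg
      induction hg using Subgroup.closure_induction with
      | mem g hg =>
        obtain ⟨k, rfl⟩ := hg
        rcases k with i | i
        · rw [← hρ i]
          refine ⟨hconjρ _, fun u hu => ?_⟩
          have := hconjρ (P.t i)⁻¹ u hu
          rwa [map_inv, inv_inv] at this
        · fin_cases i
          · have hm : f (Sum.inr 0) ∈ X := by
              rw [← hBx]; exact hxmem.1
            exact ⟨fun u hu => mul_mem (mul_mem hm hu) (inv_mem hm), fun u hu => mul_mem (mul_mem (inv_mem hm) hu) hm⟩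
          · have hm : f (Sum.inr 1) ∈ X := by
              rw [← hBy]; exact hxmem.2
            exact ⟨fun u hu => mul_mem (mul_mem hm hu) (inv_mem hm), fun u hu => mul_mem (mul_mem (inv_mem hm) hu) hm⟩
          · have e : f (Sum.inr 2) = T.τ (Pi.single 0 1 - Pi.single 1 1) := by
              rw [T.τ_diff n01, B.hf01, hBh]
            show (∀ u ∈ X, f (Sum.inr 2) * u * (f (Sum.inr 2))⁻¹ ∈ X) ∧
              ∀ u ∈ X, (f (Sum.inr 2))⁻¹ * u * f (Sum.inr 2) ∈ X
            rw [e]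
            refine ⟨hconjτ _ (by simp [Finset.sum_sub_distrib]), fun u hu => ?_⟩
            have := hconjτ (-((Pi.single (0 : Fin (N + 3)) (1 : ℤ) : Fin (N + 3) → ℤ) - Pi.single 1 1))
              (by simp [Finset.sum_sub_distrib]) u hu
            rw [show T.τ (-((Pi.single (0 : Fin (N + 3)) (1 : ℤ) : Fin (N + 3) → ℤ) - Pi.single 1 1)) =
              (T.τ (Pi.single 0 1 - Pi.single 1 1))⁻¹ from by rw [← show T.pre.τ = T.τ from rfl]; exact T.pre.τ_neg _, inv_inv] at this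
            exact this
      | one => simp
      | mul a b _ _ ha hb =>
        refine ⟨fun u hu => ?_, fun u hu => ?_⟩
        · have := ha.1 _ (hb.1 u hu); simpa [mul_assoc] using this
        · have := hb.2 _ (ha.2 u hu); simpa [mul_assoc] using this
      | inv a _ ha => exact ⟨fun u hu => by simpa using ha.2 u hu, fun u hu => by simpa using ha.1 u hu⟩
    exact ⟨fun u hu g => (key g (hgenG g)).1 u hu⟩
  have hlink : ∀ w ∈ Subgroup.normalClosure ({P.X, P.Y} : Set (FreeGroup P.L)), FreeGroup.lift f w ∈ X := by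
    have : Subgroup.normalClosure ({P.X, P.Y} : Set (FreeGroup P.L)) ≤ X.comap (FreeGroup.lift f) := by
      haveI := hXn
      refine Subgroup.normalClosure_le_normal ?_
      rintro _ (rfl | rfl)
      · show FreeGroup.lift f P.X ∈ X; rw [hX']; exact hxmem.1
      · show FreeGroup.lift f P.Y ∈ X; rw [hY']; exact hxmem.2
    exact fun w hw => this hw
  have hhX : B.h ∈ X := by
    rw [b9]; exact hlink _ (P.link_spec D _).1
  have hρX : ∀ σ, B.ρ σ ∈ X := by
    have hK : X.comap B.ρ = ⊤ := by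
      refine normal_eq_top _ (fun σ k hk => ?_) ?_
      · show B.ρ (σ * k * σ⁻¹) ∈ X
        rw [map_mul, map_mul, map_inv]; exact hconjρ σ _ hk
      · show B.ρ (c012 N) ∈ X
        rw [b10]; exact hlink _ (P.link_spec D _).1
    exact fun σ => (show σ ∈ X.comap B.ρ from hK ▸ Subgroup.mem_top σ)
  revert g
  show ∀ g : G, g ∈ X
  intro g
  refine (Subgroup.closure_le X).2 ?_ (hgenG g)
  rintro _ ⟨k, rfl⟩
  rcases k with i | i
  · rw [← hρ i]; exact hρX _
  · fin_cases i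
    · show f (Sum.inr 0) ∈ X; rw [← hBx]; exact hxmem.1
    · show f (Sum.inr 1) ∈ X; rw [← hBy]; exact hxmem.2
    · show f (Sum.inr 2) ∈ X; rw [← hBh]; exact hhX

theorem injective_of_rels (h4 : N = 0 → Fintype.card F ≠ 4) (hrel : ∀ r ∈ P.relList D, FreeGroup.lift f r = 1)
    (hgenG : ∀ g : G, g ∈ Subgroup.closure (Set.range f))
    (Φ : G →* Matrix.SpecialLinearGroup (Fin (N + 3)) F) (hΦ : ∀ w, Φ (FreeGroup.lift f w) = P.std D w) :
    Function.Injective Φ := by
  obtain ⟨B, hρ, hBx, hBy, hBh, T, R, hcl⟩ := P.exists_base D f hrel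
  have hX' : FreeGroup.lift f P.X = B.x := by rw [hBx]; simp [TPart.X]
  have hY' : FreeGroup.lift f P.Y = B.y := by rw [hBy]; simp [TPart.Y]
  have hH' : FreeGroup.lift f P.H = B.h := by rw [hBh]; simp [TPart.H]
  have hx : ∀ i j, FreeGroup.lift f (P.xw i j) = B.xf i j := fun i j => by
    rw [xw, P.orbW_eval f B.ρ hρ, hX', hY']; rfl
  have hh : ∀ i j, FreeGroup.lift f (P.hw i j) = B.hf i j := fun i j => by
    rw [hw, P.orbW_eval f B.ρ hρ, map_inv, hH']; rfl
  have hΦx : ∀ i j, ∀ h : i ≠ j, Φ (B.xf i j) = tv h 1 := fun i j h => by rw [← hx, hΦ, P.std_xw D i j h]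
  have hΦh : ∀ i j, i ≠ j → Φ (B.hf i j) = diagW D.ω D.hω (Pi.single i 1 - Pi.single j 1) :=
    fun i j h => by rw [← hh, hΦ, P.std_hw D i j h]
  obtain ⟨φ, hlin, hraw⟩ : ∃ φ : Fin (N + 3) → Fin (N + 3) → Multiplicative F →* G,
      (∀ i j, i ≠ j → T.pre.Lin D i j (φ i j)) ∧
      CfsgLib.StSL.Raw (fun i j t => φ i j (Multiplicative.ofAdd t)) := by
    by_cases hN : N = 0
    · exact Base.raw_three T R hN (h4 hN) (g₀ D) (g₀_spec D (h4 hN)) (hcl hN)
    · exact Base.raw_four T R (Nat.pos_of_ne_zero hN)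
  rw [injective_iff_map_eq_one]
  intro g hg
  exact CfsgLib.StSL.injective_of_raw (by omega) hraw Φ (fun h t => map_φ D T Φ hΦh hΦx φ hlin h t)
    (P.gen_top D f hrel hgenG hρ hBx hBy hBh T φ hlin g) hg

theorem exists_isom (h4 : N = 0 → Fintype.card F ≠ 4) :
    ∃ e : PresentedGroup {r | r ∈ P.relList D} ≃* Matrix.SpecialLinearGroup (Fin (N + 3)) F,
      ∀ k, e (PresentedGroup.of k) = P.f₀ D k := by
  have hlift : FreeGroup.lift (PresentedGroup.of (rels := {r | r ∈ P.relList D})) =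
      PresentedGroup.mk {r | r ∈ P.relList D} := by
    ext k; simp only [FreeGroup.lift_apply_of]; rfl
  have hh : ∀ r ∈ {r | r ∈ P.relList D}, FreeGroup.lift (P.f₀ D) r = 1 := fun r hr => P.std_holds D h4 r hr
  let Φ := PresentedGroup.toGroup hh
  have hΦ : ∀ w, Φ (FreeGroup.lift PresentedGroup.of w) = P.std D w := fun w => by rw [hlift]; rfl
  have hinj : Function.Injective Φ := P.injective_of_rels D PresentedGroup.of h4
    (fun r hr => by rw [hlift]; exact PresentedGroup.one_of_mem hr)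
    (fun g => by rw [PresentedGroup.closure_range_of]; exact Subgroup.mem_top g) Φ hΦ
  have hsurj : Function.Surjective Φ := fun u => by
    obtain ⟨w, hw⟩ := P.std_surjective D u
    exact ⟨FreeGroup.lift PresentedGroup.of w, (hΦ w).trans hw⟩
  exact ⟨MulEquiv.ofBijective Φ ⟨hinj, hsurj⟩, fun k => PresentedGroup.toGroup.of hh⟩

end TPart

end CfsgLib.SLShort
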