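import Cfsg.Agent.Lib.SLShort.Base
import Mathlib.LinearAlgebra.Matrix.Permutation

/-!
# The elements of the special linear group
-/

namespace CfsgLib.SLShort

open Equiv Equiv.Perm Matrix
open scoped commutatorElement

variable {F : Type*} [Field F] {N : ℕ}

local notation "SLm" => Matrix.SpecialLinearGroup (Fin (N + 3)) F

/-- Even permutation matrices. -/
def permSL : AG N →* SLm where
  toFun σ := ⟨((σ : Perm (Fin (N + 3)))⁻¹).permMatrix F, by
    rw [Matrix.det_permutation, map_inv, Equiv.Perm.mem_alternatingGroup.1 σ.2]; simp⟩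
  map_one' := Subtype.ext (by simp)
  map_mul' σ τ := Subtype.ext (by
    show ((σ * τ : AG N) : Perm (Fin (N + 3)))⁻¹.permMatrix F =
      ((σ : Perm (Fin (N + 3)))⁻¹).permMatrix F * ((τ : Perm (Fin (N + 3)))⁻¹).permMatrix F
    rw [Subgroup.coe_mul, _root_.mul_inv_rev, Equiv.Perm.permMatrix, Equiv.Perm.permMatrix,
      Equiv.Perm.permMatrix, ← PEquiv.toMatrix_trans, ← Equiv.toPEquiv_trans]
    rfl)

theorem permSL_apply (σ : AG N) (i j : Fin (N + 3)) :
    (permSL (F := F) σ).1 i j = if (σ : Perm (Fin (N + 3))) j = i then 1 else 0 := by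
  show ((σ : Perm (Fin (N + 3)))⁻¹).toPEquiv.toMatrix i j = _
  rw [PEquiv.toMatrix_apply, Equiv.toPEquiv_apply]
  refine if_congr ?_ rfl rfl
  rw [Option.mem_def, Option.some.injEq, eq_comm, Perm.eq_inv_iff_eq, eq_comm]

theorem perm_mul_apply (σ : AG N) (M : Matrix (Fin (N + 3)) (Fin (N + 3)) F) (i j : Fin (N + 3)) :
    ((permSL (F := F) σ).1 * M) ((σ : Perm (Fin (N + 3))) i) j = M i j := by
  rw [Matrix.mul_apply, Finset.sum_eq_single i]
  · simp [permSL_apply]
  · intro b _ hb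
    simp [permSL_apply, hb]
  · simp

theorem mul_perm_apply (σ : AG N) (M : Matrix (Fin (N + 3)) (Fin (N + 3)) F) (i j : Fin (N + 3)) :
    (M * (permSL (F := F) σ).1) i j = M i ((σ : Perm (Fin (N + 3))) j) := by
  rw [Matrix.mul_apply, Finset.sum_eq_single ((σ : Perm (Fin (N + 3))) j)]
  · simp [permSL_apply]
  · intro b _ hb
    simp [permSL_apply, Ne.symm hb]
  · simp

/-- The root element. -/
def tv {i j : Fin (N + 3)} (h : i ≠ j) (t : F) : SLm := Matrix.SpecialLinearGroup.transvection h t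

theorem perm_conj_tv (σ : AG N) {i j : Fin (N + 3)} (h : i ≠ j) (t : F) :
    permSL σ * tv h t * (permSL σ)⁻¹ = tv ((σ : Perm (Fin (N + 3))).injective.ne h) t := by
  rw [mul_inv_eq_iff_eq_mul]
  apply Subtype.ext
  show (permSL σ).1 * (1 + single i j t) = (1 + single _ _ t) * (permSL σ).1
  ext a b
  obtain ⟨a', rfl⟩ := (σ : Perm (Fin (N + 3))).surjective a
  rw [perm_mul_apply, mul_perm_apply]
  simp [Matrix.one_apply, Matrix.single_apply]

/-- The diagonal elements with prescribed exponents. -/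
def diagW (ω : F) (hω : ω ≠ 0) (v : Fin (N + 3) → ℤ) : SLm :=
  if h : ∑ t, v t = 0 then
    ⟨Matrix.diagonal fun a => ω ^ v a, by
      rw [Matrix.det_diagonal]
      have : ∀ s : Finset (Fin (N + 3)), ∏ a ∈ s, ω ^ v a = ω ^ ∑ a ∈ s, v a := by
        classical
        intro s
        induction s using Finset.induction with
        | empty => simp
        | insert a s ha ih => rw [Finset.prod_insert ha, Finset.sum_insert ha, zpow_add₀ hω, ih]
      rw [this, h, zpow_zero]⟩
  else 1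

theorem diagW_coe {ω : F} (hω : ω ≠ 0) {v : Fin (N + 3) → ℤ} (hv : ∑ t, v t = 0) :
    (diagW ω hω v).1 = Matrix.diagonal fun a => ω ^ v a := by
  exact congrArg Subtype.val (dif_pos hv : diagW ω hω v = _)

theorem diagW_add {ω : F} (hω : ω ≠ 0) {v w : Fin (N + 3) → ℤ} (hv : ∑ t, v t = 0) (hw : ∑ t, w t = 0) :
    diagW ω hω (v + w) = diagW ω hω v * diagW ω hω w := by
  apply Subtype.ext
  rw [Matrix.SpecialLinearGroup.coe_mul, diagW_coe hω (by simp [Finset.sum_add_distrib, hv, hw]),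
    diagW_coe hω hv, diagW_coe hω hw, Matrix.diagonal_mul_diagonal]
  congr 1
  funext a
  exact zpow_add₀ hω _ _

theorem diagW_zero {ω : F} (hω : ω ≠ 0) : diagW (N := N) ω hω 0 = 1 := by
  apply Subtype.ext
  rw [diagW_coe hω (by simp)]
  simp

theorem diagW_conj_tv {ω : F} (hω : ω ≠ 0) {v : Fin (N + 3) → ℤ} (hv : ∑ t, v t = 0) {i j : Fin (N + 3)}
    (h : i ≠ j) (t : F) :
    diagW ω hω v * tv h t * (diagW ω hω v)⁻¹ = tv h (ω ^ (v i - v j) * t) := by
  rw [mul_inv_eq_iff_eq_mul]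
  apply Subtype.ext
  show (diagW ω hω v).1 * (1 + single i j t) = (1 + single i j _) * (diagW ω hω v).1
  rw [diagW_coe hω hv]
  ext a b
  rw [Matrix.diagonal_mul, Matrix.mul_diagonal]
  simp only [Matrix.add_apply, Matrix.one_apply, Matrix.single_apply]
  by_cases hab : a = b
  · subst hab
    have : ¬ (i = a ∧ j = a) := fun e => h (e.1.trans e.2.symm)
    simp [this]
  · by_cases hij : i = a ∧ j = b
    · obtain ⟨rfl, rfl⟩ := hij
      simp [h, zpow_sub₀ hω]
      field_simp
    · simp [hab, hij]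

theorem perm_conj_diagW (σ : AG N) {ω : F} (hω : ω ≠ 0) {v : Fin (N + 3) → ℤ} (hv : ∑ t, v t = 0) :
    permSL σ * diagW ω hω v * (permSL σ)⁻¹ =
      diagW ω hω (v ∘ ((σ : Perm (Fin (N + 3)))⁻¹ : Perm (Fin (N + 3)))) := by
  have hs : ∑ t, (v ∘ ((σ : Perm (Fin (N + 3)))⁻¹ : Perm (Fin (N + 3)))) t = 0 :=
    (Equiv.sum_comp ((σ : Perm (Fin (N + 3)))⁻¹) v).trans hv
  rw [mul_inv_eq_iff_eq_mul]
  apply Subtype.ext
  rw [Matrix.SpecialLinearGroup.coe_mul, Matrix.SpecialLinearGroup.coe_mul, diagW_coe hω hv,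
    diagW_coe hω hs]
  ext a b
  obtain ⟨a', rfl⟩ := (σ : Perm (Fin (N + 3))).surjective a
  rw [perm_mul_apply, mul_perm_apply]
  simp [Matrix.diagonal_apply]

theorem tv_add {i j : Fin (N + 3)} (h : i ≠ j) (s t : F) : tv (N := N) h (s + t) = tv h s * tv h t := by
  apply Subtype.ext
  show 1 + single i j (s + t) = (1 + single i j s) * (1 + single i j t)
  simp only [mul_add, add_mul, mul_one, one_mul, single_mul_single_of_ne _ _ _ _ (Ne.symm h), single_add]
  abel

/-- A root group. -/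
def tvHom {i j : Fin (N + 3)} (h : i ≠ j) : Multiplicative F →* SLm where
  toFun t := tv h (Multiplicative.toAdd t)
  map_one' := Matrix.SpecialLinearGroup.transvection_coeff_zero h
  map_mul' s t := tv_add h _ _

theorem tv_commute {i j k l : Fin (N + 3)} (h1 : i ≠ j) (h2 : k ≠ l) (h3 : j ≠ k) (h4 : i ≠ l) (s t : F) :
    Commute (tv (N := N) h1 s) (tv h2 t) := by
  apply Subtype.ext
  show (1 + single i j s) * (1 + single k l t) = (1 + single k l t) * (1 + single i j s)
  simp only [mul_add, add_mul, mul_one, one_mul, single_mul_single_of_ne _ _ _ _ h3,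
    single_mul_single_of_ne _ _ _ _ (Ne.symm h4)]
  abel

theorem tv_bracket {i j k : Fin (N + 3)} (h1 : i ≠ j) (h2 : j ≠ k) (h3 : i ≠ k) (s t : F) :
    ⁅tv (N := N) h1 s, tv h2 t⁆ = tv h3 (s * t) :=
  CfsgLib.SLPerfect.comm_transvection h1 h2 h3 s t

end CfsgLib.SLShort
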