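import Cfsg.Agent.Lib.SLShort.Build
import Cfsg.Agent.Lib.SLShort.SLSide
import Cfsg.Agent.Lib.ShortPres.AltOn
import Cfsg.Agent.Lib.ShortPres.Transfer
import Mathlib.Data.Fintype.Sum

/-!
# The presentations of the special linear groups
-/

namespace CfsgLib.SLShort

open Equiv Equiv.Perm Polynomial
open scoped commutatorElement
open CfsgLib.ShortPres (Presents exists_word cyc3 altOn altOn_le_closure mem_altOn conj_cyc3 cyc3_swap)

variable {N : ℕ}

/-- The fourth index, when there is one. -/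
def i3 (N : ℕ) : Fin (N + 3) := ⟨min 3 (N + 2), by omega⟩

theorem i3_val (h : 1 ≤ N) : (i3 N : ℕ) = 3 := by show min 3 (N + 2) = 3; omega

theorem i3_ne (h : 1 ≤ N) : i3 N ≠ 0 ∧ i3 N ≠ 1 ∧ i3 N ≠ 2 := by
  refine ⟨?_, ?_, ?_⟩ <;> intro e <;> have := congrArg Fin.val e <;>
    simp [i3_val h, Nat.mod_eq_of_lt (show 2 < N + 3 by omega)] at this

theorem eq_i3 {a : Fin (N + 3)} (ha : a.val = 3) : a = i3 N := by
  apply Fin.ext
  rw [ha]
  show 3 = min 3 (N + 2)
  have := a.isLt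
  omega

theorem orbit_all (h : 1 ≤ N) {i j : Fin (N + 3)} (hij : i ≠ j) :
    ∃ σ : AG N, (σ : Perm (Fin (N + 3))) 0 = i ∧ (σ : Perm (Fin (N + 3))) 1 = j := by
  obtain ⟨n30, n31, n32⟩ := i3_ne h
  obtain ⟨π, h0, h1⟩ := exists_perm2 (show (0 : Fin (N + 3)) ≠ 1 from n01) hij
  rcases even_or (π := π) (π₀ := swap (2 : Fin (N + 3)) (i3 N)) (sign_swap n32.symm) with ⟨σ, rfl⟩ | ⟨σ, hσ⟩
  · exact ⟨σ, h0, h1⟩
  · exact ⟨σ, by rw [hσ, Perm.mul_apply, swap_inv, swap_apply_of_ne_of_ne n02 n30.symm, h0],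
      by rw [hσ, Perm.mul_apply, swap_inv, swap_apply_of_ne_of_ne n12 n31.symm, h1]⟩

/-- The three-cycle on the first three points. -/
def c012 (N : ℕ) : AG N := ⟨cyc3 0 1 2, mem_alternatingGroup.2 (CfsgLib.ShortPres.sign_cyc3 n01 n02)⟩

theorem normal_eq_top (K : Subgroup (AG N)) (hn : ∀ σ, ∀ k ∈ K, σ * k * σ⁻¹ ∈ K) (h : c012 N ∈ K) :
    K = ⊤ := by
  rw [eq_top_iff]
  rintro ⟨π, hπ⟩ -
  have hle : altOn (Set.univ : Set (Fin (N + 3))) ≤ K.map (AG N).subtype := by
    refine (altOn_le_closure (Set.mem_univ (0 : Fin (N + 3))) (Set.mem_univ 1) n01).trans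
      ((Subgroup.closure_le _).2 ?_)
    rintro _ ⟨z, -, hz0, hz1, rfl⟩
    by_cases hz : z = 2
    · subst hz; exact ⟨_, h, rfl⟩
    let σ : AG N := ⟨swap (0 : Fin (N + 3)) 1 * swap 2 z, mem_alternatingGroup.2 (by
      rw [map_mul, sign_swap n01, sign_swap (Ne.symm hz)]; rfl)⟩
    refine ⟨(σ * c012 N * σ⁻¹)⁻¹, K.inv_mem (hn σ _ h), ?_⟩
    show ((σ : Perm (Fin (N + 3))) * cyc3 0 1 2 * (σ : Perm (Fin (N + 3)))⁻¹)⁻¹ = cyc3 0 1 z
    rw [conj_cyc3]
    simp only [σ, Perm.mul_apply, swap_apply_of_ne_of_ne n02 hz0.symm,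
      swap_apply_of_ne_of_ne n12 hz1.symm, swap_apply_left, swap_apply_right,
      swap_apply_of_ne_of_ne hz0 hz1]
    rw [cyc3_swap n01 hz0.symm hz1.symm, inv_inv]
  obtain ⟨k, hk, e⟩ := hle (mem_altOn.2 ⟨fun c hc => absurd (Set.mem_univ c) hc, mem_alternatingGroup.1 hπ⟩)
  rwa [show (⟨π, hπ⟩ : AG N) = k from Subtype.ext e.symm]

theorem no_swap01 {τ : AG N} (hN : N = 0) (h0 : (τ : Perm (Fin (N + 3))) 0 = 1) : (τ : Perm (Fin (N + 3))) 1 ≠ 0 := by
  subst hN
  exact (by decide : ∀ π : Perm (Fin 3), sign π = 1 → π 0 = 1 → π 1 ≠ 0) τ (mem_alternatingGroup.1 τ.2) h0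

theorem stab_trivial {σ : AG N} (hN : N = 0) (h0 : (σ : Perm (Fin (N + 3))) 0 = 0)
    (h1 : (σ : Perm (Fin (N + 3))) 1 = 1) : σ = 1 := by
  subst hN
  exact Subtype.ext ((by decide : ∀ π : Perm (Fin 3), π 0 = 0 → π 1 = 1 → π = 1) σ h0 h1)

theorem exists_shift (h : 2 ≤ N) : ∃ σ : AG N, (σ : Perm (Fin (N + 3))) 0 = 0 ∧
    (σ : Perm (Fin (N + 3))) 1 = 1 ∧ (σ : Perm (Fin (N + 3))) 2 = i3 N := by
  obtain ⟨n30, n31, n32⟩ := i3_ne (show 1 ≤ N by omega)
  let c4 : Fin (N + 3) := ⟨4, by omega⟩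
  have c42 : c4 ≠ 2 := fun e => by
    have := congrArg Fin.val e; simp [c4, Nat.mod_eq_of_lt (show 2 < N + 3 by omega)] at this
  have c43 : c4 ≠ i3 N := fun e => by
    have := congrArg Fin.val e; simp [c4, i3_val (show 1 ≤ N by omega)] at this
  have c40 : c4 ≠ 0 := fun e => by have := congrArg Fin.val e; simp [c4] at this
  have c41 : c4 ≠ 1 := fun e => by have := congrArg Fin.val e; simp [c4] at this
  refine ⟨⟨swap (i3 N) c4 * swap 2 c4, mem_alternatingGroup.2 (by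
    rw [map_mul, sign_swap c43.symm, sign_swap c42.symm]; rfl)⟩, ?_, ?_, ?_⟩
  · simp [swap_apply_of_ne_of_ne n02 c40.symm, swap_apply_of_ne_of_ne n30.symm c40.symm]
  · simp [swap_apply_of_ne_of_ne n12 c41.symm, swap_apply_of_ne_of_ne n31.symm c41.symm]
  · simp

/-- The alternating part of a presentation. -/
structure TPart (N : ℕ) where
  m : ℕ
  t : Fin m → AG N
  relsT : Finset (FreeGroup (Fin m))
  hT : Presents relsT t
  S : List (AG N)
  hS0 : ∀ s ∈ S, (s : Perm (Fin (N + 3))) 0 = 0 ∧ (s : Perm (Fin (N + 3))) 1 = 1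
  hS : ∀ σ : AG N, (σ : Perm (Fin (N + 3))) 0 = 0 → (σ : Perm (Fin (N + 3))) 1 = 1 →
    σ ∈ Subgroup.closure {s | s ∈ S}

namespace TPart

variable (P : TPart N)

/-- The letters. -/
abbrev L := Fin P.m ⊕ Fin 3

/-- A word for an even permutation. -/
noncomputable def tw (σ : AG N) : FreeGroup P.L :=
  FreeGroup.map Sum.inl (exists_word P.hT.gen σ).choose

theorem tw_eval {G : Type*} [Group G] (f : P.L → G) (ρ : AG N →* G) (hρ : ∀ i, ρ (P.t i) = f (Sum.inl i))
    (σ : AG N) : FreeGroup.lift f (P.tw σ) = ρ σ := by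
  have e : ρ.comp (FreeGroup.lift P.t) = (FreeGroup.lift f).comp (FreeGroup.map Sum.inl) := by
    ext i; simp [hρ]
  conv_rhs => rw [← (exists_word P.hT.gen σ).choose_spec]
  exact (DFunLike.congr_fun e _).symm

theorem exists_rho {G : Type} [Group G] (f : P.L → G)
    (h : ∀ r ∈ P.relsT, FreeGroup.lift f (FreeGroup.map Sum.inl r) = 1) :
    ∃ ρ : AG N →* G, ∀ i, ρ (P.t i) = f (Sum.inl i) := by
  obtain ⟨e, he⟩ := P.hT.iso
  have hh : ∀ r ∈ (↑P.relsT : Set (FreeGroup (Fin P.m))), FreeGroup.lift (f ∘ Sum.inl) r = 1 := by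
    intro r hr
    have e : (FreeGroup.lift f).comp (FreeGroup.map Sum.inl) = FreeGroup.lift (f ∘ Sum.inl) := by
      ext i; simp
    exact (DFunLike.congr_fun e r).symm.trans (h r hr)
  refine ⟨(PresentedGroup.toGroup hh).comp e.symm.toMonoidHom, fun i => ?_⟩
  show PresentedGroup.toGroup hh (e.symm (P.t i)) = _
  rw [← he i, MulEquiv.symm_apply_apply]
  exact PresentedGroup.toGroup.of _

open Classical in
/-- Orbit words. -/
noncomputable def orbW (u u' : FreeGroup P.L) (i j : Fin (N + 3)) : FreeGroup P.L :=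
  if h : ∃ σ : AG N, (σ : Perm (Fin (N + 3))) 0 = i ∧ (σ : Perm (Fin (N + 3))) 1 = j then
    P.tw h.choose * u * (P.tw h.choose)⁻¹
  else if h : ∃ σ : AG N, (σ : Perm (Fin (N + 3))) 1 = i ∧ (σ : Perm (Fin (N + 3))) 0 = j then
    P.tw h.choose * u' * (P.tw h.choose)⁻¹
  else 1

theorem orbW_eval {G : Type*} [Group G] (f : P.L → G) (ρ : AG N →* G) (hρ : ∀ i, ρ (P.t i) = f (Sum.inl i))
    (u u' : FreeGroup P.L) (i j : Fin (N + 3)) :
    FreeGroup.lift f (P.orbW u u' i j) = orb ρ (FreeGroup.lift f u) (FreeGroup.lift f u') i j := by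
  unfold orbW orb
  split_ifs <;> simp [P.tw_eval f ρ hρ]

/-- The letter of the first root element. -/
def X : FreeGroup P.L := FreeGroup.of (Sum.inr 0)
/-- The letter of the reversed root element. -/
def Y : FreeGroup P.L := FreeGroup.of (Sum.inr 1)
/-- The letter of the torus element. -/
def H : FreeGroup P.L := FreeGroup.of (Sum.inr 2)

/-- Root words. -/
noncomputable def xw : Fin (N + 3) → Fin (N + 3) → FreeGroup P.L := P.orbW P.X P.Y
/-- Torus words. -/
noncomputable def hw : Fin (N + 3) → Fin (N + 3) → FreeGroup P.L := P.orbW P.H P.H⁻¹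

/-- A commutator word. -/
def cm {G : Type*} [Group G] (a b : G) : G := ⁅a, b⁆

theorem cm_eq_one {G : Type*} [Group G] {a b : G} : cm a b = 1 ↔ Commute a b :=
  commutatorElement_eq_one_iff_commute

theorem map_cm {G G' : Type*} [Group G] [Group G'] (f : G →* G') (a b : G) : f (cm a b) = cm (f a) (f b) :=
  map_commutatorElement f a b

/-- The cocycle relation. -/
noncomputable def cocR (i j k : Fin (N + 3)) : FreeGroup P.L := P.hw i k * (P.hw i j * P.hw j k)⁻¹

/-- The bracket relation. -/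
noncomputable def brR (i j k : Fin (N + 3)) : FreeGroup P.L := cm (P.xw i j) (P.xw j k) * (P.xw i k)⁻¹

variable {F : Type} [Field F] [Fintype F] (D : FData F)

/-- The element in `SL`. -/
noncomputable def f₀ : P.L → Matrix.SpecialLinearGroup (Fin (N + 3)) F :=
  Sum.elim (fun i => permSL (P.t i))
    ![tv n01 1, if N = 0 then tv n01.symm 1 else 1,
      diagW D.ω D.hω (Pi.single 0 1 - Pi.single 1 1)]

/-- The standard map. -/
noncomputable def std : FreeGroup P.L →* Matrix.SpecialLinearGroup (Fin (N + 3)) F := FreeGroup.lift (P.f₀ D)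

open Classical in
/-- A word in the normal closure of the root letters. -/
noncomputable def link (u : Matrix.SpecialLinearGroup (Fin (N + 3)) F) : FreeGroup P.L :=
  if h : ∃ w ∈ Subgroup.normalClosure ({P.X, P.Y} : Set (FreeGroup P.L)), P.std D w = u then h.choose else 1

/-- The polynomial expressing the generator by its cubes. -/
noncomputable def g₀ : ℤ[X] := if h : Fintype.card F ≠ 4 then (D.gen3 h D.ω).choose else 0

/-- The relations depending on the degree. -/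
noncomputable def caseRels : List (FreeGroup P.L) :=
  if N = 0 then
    [cm (P.hw 0 2 * P.hw 1 2) P.Y, P.brR 1 0 2,
      CfsgLib.SL2Pres.cj (P.hw 0 2) P.X 1 * (CfsgLib.SL2Pres.ev (P.hw 0 2) P.X 3 (g₀ D))⁻¹]
  else
    [P.Y, cm (P.hw 2 (i3 N)) P.X, cm (P.xw 0 1) (P.xw 2 (i3 N))] ++
      (if N = 1 then [P.cocR 0 1 (i3 N), P.brR 0 1 (i3 N)] else []) ++
      (if N ≤ 2 then [cm (P.xw 0 1) (P.xw (i3 N) 2)] else [])

/-- The relations on the first indices. -/
noncomputable def baseRels : List (FreeGroup P.L) :=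
    [P.cocR 0 1 2, cm (P.hw 0 1) (P.hw 0 2), cm (P.hw 0 2 * P.hw 1 2) P.X,
      cm (P.xw 0 1) (P.xw 0 2), cm (P.xw 0 1) (P.xw 2 1), P.brR 0 1 2,
      P.X ^ D.p, CfsgLib.SL2Pres.ev (P.hw 0 2) P.X 1 D.m,
      P.H * (P.link D (P.std D P.H))⁻¹, P.tw (c012 N) * (P.link D (P.std D (P.tw (c012 N))))⁻¹]

/-- All relations. -/
noncomputable def relList : List (FreeGroup P.L) :=
  P.relsT.toList.map (FreeGroup.map Sum.inl) ++
    P.S.map (fun s => cm (P.tw s) P.X) ++ P.S.map (fun s => cm (P.tw s) P.H) ++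
    P.baseRels D ++ P.caseRels D

theorem mem_relT {r : FreeGroup (Fin P.m)} (h : r ∈ P.relsT) :
    FreeGroup.map (Sum.inl : Fin P.m → P.L) r ∈ P.relList D :=
  List.mem_append_left _ (List.mem_append_left _ (List.mem_append_left _
    (List.mem_append_left _ (List.mem_map.2 ⟨r, Finset.mem_toList.2 h, rfl⟩))))

theorem mem_stabX {s : AG N} (h : s ∈ P.S) : cm (P.tw s) P.X ∈ P.relList D :=
  List.mem_append_left _ (List.mem_append_left _ (List.mem_append_left _
    (List.mem_append_right _ (List.mem_map.2 ⟨s, h, rfl⟩))))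

theorem mem_stabH {s : AG N} (h : s ∈ P.S) : cm (P.tw s) P.H ∈ P.relList D :=
  List.mem_append_left _ (List.mem_append_left _ (List.mem_append_right _ (List.mem_map.2 ⟨s, h, rfl⟩)))

theorem mem_base {r : FreeGroup P.L} (h : r ∈ P.baseRels D) : r ∈ P.relList D :=
  List.mem_append_left _ (List.mem_append_right _ h)

theorem mem_case {r : FreeGroup P.L} (h : r ∈ P.caseRels D) : r ∈ P.relList D :=
  List.mem_append_right _ h

end TPart

end CfsgLib.SLShort
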